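import Cfsg.Agent.TAB.Co1.Tab
import Cfsg.Agent.TAB.Use.Main

/-!
# The table of `Co1` (helper11, TAB): what the consumers need

`van`, `odd`, `sig`; `deg` is in `Tab`.
-/

set_option autoImplicit false
set_option maxHeartbeats 400000

namespace Cfsg.Agent.TAB.Co1

open Cfsg Cfsg.Agent.TAB.Eng Cfsg.Agent.TAB.Use Cfsg.Agent.DZ3.Spor.Tr Cfsg.Agent.H123.Cls
open Cfsg.Agent.SporadicA.GolayBase (idx pt idx_lt pt_idx)
open Cfsg.Agent.Lib.BitNetSimple (force force_eq)
open Cfsg.Agent.H68.CoGen (gB gB_spec colB)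
open Cfsg.Agent.H68.CoMdl
open Cfsg.Agent.CoOneType.CoOneE (pr)

theorem NN_inj {g h : Co0} (H : NN g = NN h) : g = h := by
  refine SporadicStructure.Co0Base.co0_ext_e8 fun j => Subtype.ext (funext fun i => ?_)
  unfold NN at H
  have h1 : ro g (idx i) = ro h (idx i) := by
    rw [← pk_dig 24 (ro_lt g) _ (idx_lt i), H, pk_dig 24 (ro_lt h) _ (idx_lt i)]
  unfold ro at h1
  have h2 : dg g (idx i) (idx j) = dg h (idx i) (idx j) := by
    rw [← pk_dig 24 (dg_lt g (idx i)) _ (idx_lt j), h1, pk_dig 24 (dg_lt h (idx i)) _ (idx_lt j)]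
  have h3 := dg_cast g (idx i) (idx j)
  rw [h2, dg_cast, add_left_inj] at h3
  unfold E at h3
  rw [pt_idx, pt_idx] at h3
  exact h3.symm

/-- two words in two letters have the same matrix -/
noncomputable def eqV (k0 k1 k2 n0 : ℕ) (a b u v : List ℕ) : Bool :=
  force k0 fun K0 => force k1 fun K1 => force k2 fun K2 => force n0 fun n =>
    DZ3.Spor.Tr.frc a fun c0 => DZ3.Spor.Tr.frc b fun c1 => force (K2 * c0.sum) fun s0 => force (K2 * c1.sum) fun s1 =>
      run K0 K1 (sel c0 c1 c1) (sel s0 s1 s1) u n fun x => run K0 K1 (sel c0 c1 c1) (sel s0 s1 s1) v n fun y =>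
        Nat.beq x y

theorem eqV_spec {e : ℕ → Co0} {k0 k1 k2 n0 : ℕ} {a b : List ℕ} (h0 : St k0 k1 a (k2 * a.sum) (e 0))
    (h1 : ∀ l, St k0 k1 b (k2 * b.sum) (e (l + 1))) (hn : n0 = NN 1) {u v : List ℕ}
    (h : eqV k0 k1 k2 n0 a b u v = true) : (u.map e).prod = (v.map e).prod := by
  unfold eqV at h
  simp only [force_eq, DZ3.Spor.Tr.frc_eq] at h
  have h2 : ∀ l, St k0 k1 (sel a b b l) (sel (k2 * a.sum) (k2 * b.sum) (k2 * b.sum) l) (e l) := fun l =>
    match l with
    | 0 => h0
    | 1 => h1 0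
    | l + 2 => h1 (l + 1)
  rw [hn, run_eq h2, run_eq h2, mul_one, mul_one] at h
  exact NN_inj (Nat.eq_of_beq_eq_true h)

attribute [irreducible] eqV

/-- the columns of an element which normalizes the second generator -/
def colH : List ℕ := [0x73a4e83a1094a1084a108525093a50, 0x84210741ce8424e941d273a12a4212,
    0xa4210741d2841ce7425274a0e84212, 0x749d283a1474a1084a1084250949d0, 0x83210941d2842529425273a0e8420e,
    0x939d284a1094a1083a0c8425094a50, 0x842109424e841ce941d274a0e8520e, 0x8421074252841d2741d273a128428e,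
    0x84210941d2841d2941ce7499284212, 0x739d284a1074a0c84a10841d073a50, 0x939ce83a9074a1083a10841d0939d0,
    0x739ce83a1073a1083a108425074a54, 0x73a5263a1094a1083a10841d0749d0, 0x739ce84a1093a1064a10841d0949d0,
    0x84290942528424e741ce73a0e84212, 0x84210742528324e9424e74a128420e, 0x84210941d28424e731d294a128420e,
    0x749ce84a1094a1083a1064250739d0, 0x74a4e84a1074a1083a90841d094a50, 0x84210931ce841ce7424e73a128420e,
    0x949ce83a1094a9084a10841d074a50, 0x749d283a1093a1083a10841cc93a50, 0x8420c741d2841ce941ce93a0e8420e,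
    0x8421094252a41ce9425293a1284212]

/-- the images of the generators of the lattice -/
def ysH : List ℕ := [0x7be2f8be319c5ef8c6318c6318be31, 0x84210842109420e9421283a1294212,
    0x9421084212941ce842528421084212, 0x7c5f18be338c5ef8c6318be318c5f1, 0x83a1094212942109425283a1084210,
    0x8bdf18c6319c5ef8be2f8be318c631, 0x8421094250941ce942128421084a10, 0x8421084252941d08421283a1284250,
    0x8421094212941d094210841d284212, 0x7bdf18c6318c5ed8c6318bdf17be31, 0x8bdef8be718c5ef8be318bdf18bdf1,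
    0x7bdef8be318bdef8be318be317c633, 0x7be317be319c5ef8be318bdf17c5f1, 0x7bdef8c6319bdef7c6318bdf18c5f1,
    0x84250942529420e8421083a1084212, 0x842108425293a0e942508421284210, 0x84210942129420e83a129421284210,
    0x7c5ef8c6319c5ef8be317be317bdf1, 0x7c62f8c6318c5ef8be718bdf18c631, 0x8421093a10941ce8425083a1284210,
    0x8c5ef8be319c62f8c6318bdf17c631, 0x7c5f18be319bdef8be318bdef8be31, 0x8420e84212941ce9421093a1084210,
    0x8421094252a41ce9425293a1284212, 0x7bdef7bdf17c62f7bdef6c5ef8c62f, 0x7424e8421294a0e83a108421084210,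
    0x7be2f7bdf18be2d7bdef7bdf18c5ef, 0x8420e742129420e84250841d084a10, 0x6c5ef7bdf18c5ef7be2f7bdef8c5ef,
    0x7bdef8bdf19c62f7be317bdf17c5ef, 0x7c5ef8c6319c62f7be2f7bdef8c631, 0x7c62f8be318bded8be2f7bdef8c62f,
    0x7c62f7be318c62f7be2f6bdf17c62f, 0x7c5ef8bdf18be2f7be2f7c5b18c62f, 0x7c5ef8bdf18c62d7bdef7bdef7be2f,
    0x8421083a529424e83a10841d084210, 0x741ce8421293a0e83a108421084210]

theorem checkH : LeechMat.Elements.checkMat 8 colH ysH = true := by decide +kernel

theorem eqH : eqV (3200 * on1 * on2) (8 * on2) (16 * on1) N1 (wide (en colH)) (wide (en colB)) [0, 1]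
    (List.replicate 41 1 ++ [0]) = true := by decide +kernel

theorem conj_gb : IsConj gb (gb ^ 41) := by
  obtain ⟨h, hh⟩ := LeechMat.Elements.exists_co0 checkH
  have h1 := eqV_spec (e := sel h gB gB) (st_wide (A := en colH) (E_of_mv hh))
    (fun l => by cases l <;> exact st_wide (A := en colB) (E_of_mv gB_spec)) N1_eq eqH
  rw [List.map_append, List.map_replicate, List.prod_append, List.prod_replicate] at h1
  have h2 : h * gB = gB ^ 41 * h := by simpa [sel] using h1
  refine isConj_iff.2 ⟨pr h, ?_⟩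
  rw [mul_inv_eq_iff_eq_mul]
  exact (map_mul pr h gB).symm.trans ((congrArg pr h2).trans (by rw [map_mul, map_pow]; rfl))

theorem pow_ne {n : ℕ} (h : evK H68.CoGen.MB H68.CoGen.MB (List.replicate n false) false (fun l => l.getD 0 0 != 1) = true) :
    gb ^ (n + 1) ≠ 1 := by
  obtain ⟨R, h1, h2⟩ := S1.evK_eq (a := gb) (b := gb) L_gb L_gb (List.replicate n false) false
  intro h3
  have h4 := h2 (2 ^ 0)
  rw [wG_rep, h3, S1.L_one _ (by norm_num), xc_two_pow] at h4
  rw [h1, ← h4] at h
  exact absurd h (by decide)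

theorem ord_gb : orderOf gb = 39 := by
  refine orderOf_eq_of_pow_and_pow_div_prime (by norm_num) ?_ fun p hp h => ?_
  · exact (wG_rep gb 38).symm.trans (hun _ (S1.of_chkWd L_gb L_gb (by decide +kernel)))
  · have h1 : p ∣ 3 * 13 := h
    rcases (Nat.Prime.dvd_mul hp).1 h1 with h2 | h2
    · rw [(Nat.prime_dvd_prime_iff_eq hp (by norm_num)).1 h2]
      exact pow_ne (n := 12) (by decide +kernel)
    · rw [(Nat.prime_dvd_prime_iff_eq hp (by norm_num)).1 h2]
      exact pow_ne (n := 2) (by decide +kernel)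

theorem sigConj (T : TD Spor.Co1 D) : SigConj T 95 := by
  refine ⟨gb, 0, 39, 41, ?_, by decide, conj_gb⟩
  have h := T.ord gb
  rw [ord_gb] at h
  exact (by decide +kernel : ∀ t < D.n, 39 = D.ord t → t = 95) _ (T.lt gb) h

/-- **three elements cover the non-trivial characters by zeros** -/
theorem van : VAN.Van3 Spor.Co1 := by
  obtain ⟨T, hm, -, -, hI, h⟩ := tab
  exact h.van3 hI hm.1 [(2, 21), (3, 9), (5, 4), (7, 2), (11, 1), (13, 1), (23, 1)] (by decide) 2 64 77
    (by decide +kernel)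

/-- **the characters of odd degree are `2`-rational** -/
theorem odd : OddRat Spor.Co1 := by
  obtain ⟨T, -, -, -, hI, h⟩ := tab
  exact h.oddRat hI [77, 95] (by decide) (by decide +kernel)

/-- all the characters are `2`-rational -/
theorem allRat : AllRat Spor.Co1 := by
  obtain ⟨T, -, -, -, hI, h⟩ := tab
  exact h.allRat hI [77, 95] (by decide) (by decide +kernel)

/-- **the characters of odd degree are fixed by `Sig`** -/
theorem sig : OddSig Spor.Co1 := by
  obtain ⟨T, -, -, -, hI, h⟩ := tab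
  exact h.oddSig hI [] rfl [95] (fun t ht => List.mem_singleton.1 ht ▸ sigConj T) (by decide +kernel)

end Cfsg.Agent.TAB.Co1
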