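import Cfsg.Agent.TAB.Co1.Ort

/-!
# The table of `Co1` (helper11, TAB): the rows are generalized characters
-/

set_option autoImplicit false
set_option maxHeartbeats 400000

namespace Cfsg.Agent.TAB.Co1

open Cfsg Cfsg.Agent.TAB.Eng Cfsg.Agent.TAB.Use Cfsg.Agent.TAB.Co

/-- five rows which agree modulo the lattice of the first seeds -/
def cc : List (ℤ × ℕ) := [(1, 3), (1, 4), (1, 10), (1, 11), (1, 12)]

theorem ok_PL : okPrimes D PL = true := by decide +kernel
theorem k3 : chkP D 3 9 (3 ^ 9) Sd C3 (RA ++ RB) = true := by decide +kernel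
theorem k5 : chkP D 5 4 (5 ^ 4) Sd C5 (RA ++ RB) = true := by decide +kernel
theorem k7 : chkP D 7 2 (7 ^ 2) Sd C7 (RA ++ RB) = true := by decide +kernel
theorem k11 : chkP D 11 1 (11 ^ 1) Sd C11 (RA ++ RB) = true := by decide +kernel
theorem k13 : chkP D 13 1 (13 ^ 1) Sd C13 (RA ++ RB) = true := by decide +kernel
theorem k23 : chkP D 23 1 (23 ^ 1) Sd C23 (RA ++ RB) = true := by decide +kernel
theorem k2a : chkP D 2 21 (2 ^ 21) Sd C2a ((sqT 2 3 cc).map (comb (RA ++ RB))) = true := by decide +kernel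
theorem k2b : chkP D 2 21 (2 ^ 21) (Sd ++ [r3]) C2b (RA ++ RB) = true := by decide +kernel
theorem ok_on : okON D (RA ++ RB) (cc.map Prod.snd) = true := by decide +kernel

/-- the certificates for the odd primes -/
def CL : List (ℕ × ℕ × List Cert) := [(3, 9, C3), (5, 4, C5), (7, 2, C7), (11, 1, C11), (13, 1, C13), (23, 1, C23)]

theorem ok_CL (C : List Cert) (h : C = C2a ∨ C = C2b) :
    (PL.all fun x => x.2.2.all fun t => hasC CL x.1 t || hasC [(2, 21, C)] x.1 t) = true := by
  rcases h with rfl | rfl <;> decide +kernel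

variable {G : Type} [Group G] [Finite G] {T : TD G D}

theorem virt_rows (hm : T.Mass) (hs : ∀ sd ∈ Sd, Virt T (nth sd)) : ∀ r ∈ RA ++ RB, Virt T (nth r) := by
  have h1 : ∀ y ∈ CL, chkP D y.1 y.2.1 (y.1 ^ y.2.1) Sd y.2.2 (RA ++ RB) = true := by
    intro y hy
    simp only [CL, List.mem_cons, List.not_mem_nil, or_false] at hy
    rcases hy with rfl | rfl | rfl | rfl | rfl | rfl
    exacts [k3, k5, k7, k11, k13, k23]
  have h2 : ∀ C, C = C2a ∨ C = C2b → ∀ f, (∀ l s, hasC CL l s = true → Eng.Good T l s f) →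
      (∀ l s, hasC [(2, 21, C)] l s = true → Eng.Good T l s f) → Virt T f := fun C hC f h3 h4 =>
    virt_of_good hm.1 ok_PL fun x hx t ht => by
      have h5 := List.all_eq_true.1 (List.all_eq_true.1 (ok_CL C hC) x hx) t ht
      rw [Bool.or_eq_true] at h5
      exact h5.elim (h3 _ _) (h4 _ _)
  have h3 : Virt T (nth r3) :=
    virt_of_sq (rows := RA ++ RB) (i0 := 3) (l := 2) (c := cc) hm (by decide) (by decide) (by decide) (by decide) ok_on
      fun x hx => h2 _ (Or.inl rfl) _ (fun l s h => Good.comb (good_of_certs hm.1 hs h1 h) x) fun l s h =>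
        good_of_certs hm.1 hs (CL := [(2, 21, C2a)]) (fun y hy => by rw [List.mem_singleton.1 hy]; exact k2a) h _
          (List.mem_map_of_mem hx)
  have h4 : ∀ sd ∈ Sd ++ [r3], Virt T (nth sd) := fun sd h =>
    (List.mem_append.1 h).elim (hs sd) fun h => List.mem_singleton.1 h ▸ h3
  exact fun r hr => h2 _ (Or.inr rfl) _ (fun l s h => good_of_certs hm.1 hs h1 h r hr) fun l s h =>
    good_of_certs hm.1 h4 (CL := [(2, 21, C2b)]) (fun y hy => by rw [List.mem_singleton.1 hy]; exact k2b) h r hr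

theorem tab_rows (hm : T.Mass) (hs : ∀ sd ∈ Sd, Virt T (nth sd)) : Inh T ∧ Tab T (Sm2.mkRows RA RB) :=
  tab_of_virt hm (by decide +kernel) (virt_rows hm hs) ok_rows

end Cfsg.Agent.TAB.Co1
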