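import Cfsg.Agent.TAB.Co1.TD
import Cfsg.Agent.TAB.Co1.Crt

/-!
# The table of `Co1` (helper11, TAB)

`tab` : the types, their numbers, and the complete list of the irreducible characters.
-/

set_option autoImplicit false

namespace Cfsg.Agent.TAB.Co1

open Cfsg Cfsg.Agent.TAB.Eng Cfsg.Agent.TAB.Use

/-- the table -/
noncomputable def RR : Rows := Sm2.mkRows RA RB

/-- **the character table of `Co1`** -/
theorem tab : ∃ T : TD Spor.Co1 D, T.Mass ∧ ON.Rat T ∧ (∀ r ∈ RA ++ RB, Virt T (nth r)) ∧ Inh T ∧ Tab T RR := by
  have := H68.CoMdl.finite_co1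
  obtain ⟨T, hm, hr, hs⟩ := exists_T
  exact ⟨T, hm, hr, virt_rows hm hs, tab_rows hm hs⟩

/-- the degrees -/
def degs : List ℕ := [1, 276, 299, 1771, 8855, 17250, 27300, 37674, 44275, 80730, 94875, 313950, 345345, 376740, 483000,
  644644, 822250, 871884, 1434510, 1450449, 1771000, 1821600, 2055625, 2417415, 2816856, 2877875, 4100096, 5494125,
  5801796, 7628985, 9221850, 9669660, 12432420, 16347825, 20083140, 21049875, 21528000, 21579129, 23244375, 24174150,
  24667500, 24794000, 25900875, 31574400, 40166280, 40370176, 44013375, 46621575, 51571520, 55255200, 57544344,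
  60435375, 65270205, 66602250, 77702625, 83720000, 85250880, 91547820, 100725625, 106142400, 109882500, 150732800,
  163478250, 184184000, 185912496, 185955000, 191102976, 201451250, 205395750, 207491625, 210974400, 215547904,
  219648000, 241741500, 247235625, 251756505, 257857600, 259008750, 267014475, 280280000, 292953024, 299710125,
  302176875, 309429120, 326956500, 360062976, 387317700, 402902500, 464257024, 469945476, 469945476, 483483000,
  502078500, 503513010, 504627200, 522161640, 551675124, 673750, 673750, 2464749, 2464749]

theorem RR_deg : RR.deg = degs := by decide +kernel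

/-- **the degrees of the irreducible characters** -/
theorem deg : DegList Spor.Co1 degs := by
  obtain ⟨T, -, -, -, -, h⟩ := tab
  exact RR_deg ▸ h.degList

end Cfsg.Agent.TAB.Co1
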