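import Cfsg.Agent.TAB.Co1.Dat

/-!
# The table of `Co1` (helper11, TAB): the rows and the local certificates
-/

set_option autoImplicit false
set_option maxRecDepth 100000

namespace Cfsg.Agent.TAB.Co1

open Cfsg.Agent.TAB.Eng

/-- degree 1 -/
def r0 : List ℤ := [1, 1, 1, 1, 1, 1, 1, 1, 1, 1, 1, 1, 1, 1, 1, 1, 1, 1, 1, 1, 1, 1, 1, 1, 1, 1, 1, 1, 1, 1, 1, 1, 1,
    1, 1, 1, 1, 1, 1, 1, 1, 1, 1, 1, 1, 1, 1, 1, 1, 1, 1, 1, 1, 1, 1, 1, 1, 1, 1, 1, 1, 1, 1, 1, 1, 1, 1, 1, 1, 1, 1, 1,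
    1, 1, 1, 1, 1, 1, 1, 1, 1, 1, 1, 1, 1, 1, 1, 1, 1, 1, 1, 1, 1, 1, 1, 1, 1, 1, 1]

/-- degree 276 -/
def r1 : List ℤ := [276, 20, 12, -12, 78, 15, 6, 0, 36, 4, 4, -4, 0, 0, 21, 6, 1, 14, -6, 5, 14, -1, 2, -3, 0, 0, 10, 3,
    4, -4, 8, 0, 0, 0, 6, 0, 3, 5, 2, -3, 0, 5, -2, 1, 6, -2, 2, 0, 3, 0, 1, -1, -2, 1, 4, 0, 0, 3, -2, -1, 3, 3, 0, 0,
    1, 2, -2, 2, -1, 2, 1, 0, -1, 1, 1, 0, -1, 0, -2, 2, 1, 0, -1, 0, -1, 0, 1, -1, 0, -1, -1, 0, 1, 0, 0, 0, -1, 1, 1]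

/-- degree 299 -/
def r2 : List ℤ := [299, 43, -13, 11, 65, 20, 2, -1, 27, -5, 11, 3, -1, -1, 14, 9, -1, 1, 5, 10, 10, 4, -2, 2, -1, -1,
    5, 5, -5, 3, 7, -1, -1, 3, 2, -1, 5, -2, -3, 2, 3, 3, 1, 2, 9, 1, -3, 0, 0, -1, -2, 0, 2, 2, 4, -1, -1, 0, 1, 1, 5,
    0, -1, 0, 2, 1, 1, -2, 1, 1, 2, -1, 1, 2, -1, -1, 0, 0, 1, 1, -2, -1, 0, 0, 0, -1, -1, 1, -1, 0, 0, 0, -1, 0, 0, 0,
    0, -2, -1]

/-- degree 1771 -/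
def r3 : List ℤ := [1771, -21, 51, 11, 286, 16, -11, 7, 91, -5, -5, 3, 7, -1, 41, 1, -4, 30, 6, -6, 21, 0, -3, 2, 3, -1,
    14, 0, 11, 3, 7, -1, -1, -1, 7, -2, -2, 9, 1, 1, -1, 4, 1, 0, -2, -2, 6, 1, 4, -2, -2, 0, 1, -2, 1, 1, -1, 3, 2, 0,
    -4, 1, 2, 1, -1, 1, 1, 3, 0, 0, 1, -1, 0, -1, 2, 0, 0, 0, 2, -2, 2, 2, 0, -1, -1, 0, 0, 0, -2, 1, 1, -1, 0, -1, 1,
    0, 1, -1, -2]

/-- degree 8855 -/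
def r4 : List ℤ := [8855, -105, 15, 55, 935, 35, -1, -7, 231, 7, -9, -1, -1, -5, 85, 0, 5, 39, 15, -15, 39, 3, 3, 1, -3,
    1, 21, 0, -1, 7, 11, 3, -1, -1, 8, 2, -4, 5, 0, 5, 0, 5, 0, 0, -9, 7, -1, -3, 3, -1, 1, -1, 3, -3, 1, -1, 1, 2, 1,
    0, -5, 0, -2, 0, -1, 1, 1, 0, 0, 0, 1, 0, 1, -3, 0, 0, 0, 0, -1, -1, -1, -1, 1, -1, 2, -1, 0, -1, 2, 0, -1, 0, 0, 1,
    0, -1, -1, 1, 1]

/-- degree 17250 -/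
def r5 : List ℤ := [17250, 610, 90, 66, 285, 141, -30, 0, 50, 18, 50, 10, -6, 6, 0, 25, 0, -35, 9, 19, 10, 13, -2, 3, 0,
    0, -5, 9, 10, 2, 6, -2, 2, 6, -3, 0, 3, 0, 5, 0, 5, 0, 1, 2, 5, -3, 1, -4, 5, 3, 3, 1, 2, -1, 0, 0, 0, -1, -1, 1, 0,
    -5, 0, 1, 0, 0, 0, 1, 1, -2, 0, 1, 0, -2, 1, 0, 0, 0, 1, -3, 1, -1, -1, 0, -1, 1, 1, 0, 0, -1, 0, -1, -1, 0, -1, -1,
    0, 2, 0]

/-- degree 27300 -/
def r6 : List ℤ := [27300, 420, 156, 132, 1794, 48, 30, 0, 308, 20, 20, 12, 0, 0, 90, 10, 0, 66, 30, 30, 30, 0, 6, 6, 0,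
    0, 14, 0, 20, 12, 8, 0, 0, 0, 3, 0, 6, 10, 6, 6, 0, 0, 2, -2, 26, 2, 6, 2, -4, 0, 2, 0, 2, 2, 2, 0, 0, 0, 2, 0, 9,
    4, 0, -2, 0, -2, 2, 3, 0, 0, -2, 0, 0, 2, -1, 0, 0, -1, 2, 2, 2, 0, 0, 0, 0, 0, 0, 1, 0, 0, 0, 0, 1, -1, -1, 0, 0,
    2, 1]

/-- degree 37674 -/
def r7 : List ℤ := [37674, 42, -78, -54, 2925, 90, 9, 0, 602, -6, -6, 2, -6, 6, 189, 9, -1, 45, -15, 0, 81, -6, -3, 0,
    0, 0, 35, 0, -14, -6, 22, -2, 2, -2, 9, 0, 0, -3, -3, -3, -3, 7, 1, -1, 5, -3, -7, -1, 2, 3, 0, 2, -3, 0, 3, 0, 0,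
    0, -1, 0, 0, 0, 0, 0, -1, 0, 0, -3, 0, 0, -3, 1, -1, -1, -1, 0, 1, 0, 1, 1, -2, -1, 0, 1, 0, 1, 0, 0, 0, 0, 1, 0,
    -1, 0, -1, 0, 1, -1, 0]

/-- degree 44275 -/
def r8 : List ℤ := [44275, 755, -77, -77, 2002, 175, -5, 1, 307, -13, 35, -13, 7, -5, 70, 30, 0, -46, -14, 35, 35, -1,
    -1, -5, 1, 1, 0, 7, -5, -5, 19, 3, -1, -1, -5, 1, 7, -10, -2, -2, 0, 0, -2, 0, 34, 2, 2, 1, -5, -2, -1, -1, -1, -1,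
    5, 1, 1, -3, 0, -1, 7, -3, 1, 0, 0, -1, -1, -1, -1, -1, 2, 0, 0, 0, 0, 1, 0, 0, -2, -2, 1, 2, 1, -1, 1, 0, -1, -1,
    1, 1, 0, 0, 0, 0, 1, 0, 0, 0, -1]

/-- degree 80730 -/
def r9 : List ℤ := [80730, 1626, -78, 186, -351, 216, 54, 0, 42, 10, 74, 34, 6, 6, -15, 25, 5, 33, -15, 6, 6, 24, 6, 6,
    0, 0, -1, 6, -6, 2, -2, 6, -2, 6, 0, 0, 0, 1, -3, -3, 1, 1, 1, 1, -15, 1, 1, 6, 0, -3, -2, 4, 2, 2, -2, 0, 0, 0, -1,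
    2, -6, 4, 0, 1, -1, 0, 0, 0, 0, 0, -3, 1, -1, -1, -1, 0, -1, 0, -3, 1, 0, 1, 2, 0, 0, -1, 0, -2, 0, 0, 1, 1, 1, -1,
    0, 0, -1, -1, 0]

/-- degree 94875 -/
def r10 : List ℤ := [94875, 155, 235, -165, 4785, 15, -30, 21, 699, -5, -5, 11, -1, -5, 175, 0, 0, 113, -35, 5, 50, -1,
    2, -3, 1, -3, 25, -3, 19, -13, 3, 3, -1, 3, 6, 3, 0, 15, 0, -5, 0, 0, 0, 0, 9, 1, 5, 6, 3, -1, 1, -1, -2, 1, -2, -1,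
    1, 1, -3, 1, -5, 0, 1, 0, 0, -1, -1, 2, 2, -1, -1, 0, 0, 4, 1, 0, 0, 0, 1, -3, 1, -1, -1, 0, 1, -1, -1, 3, 1, 0, 0,
    0, 0, 0, 0, 1, -1, 0, -1]

/-- degree 313950 -/
def r11 : List ℤ := [313950, 350, -26, 318, 8931, -33, 75, 21, 910, -18, 30, -10, 14, 10, 160, -10, 0, 35, 55, 35, 35,
    -1, -1, 3, 1, -3, 14, 0, -10, 14, -6, 2, -2, -2, 3, 3, 3, 0, -6, 4, 0, 0, -2, -1, -5, 3, -1, 1, 7, 5, 3, -1, 3, 3,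
    -3, -1, 1, 0, 2, 0, 16, -4, 1, 2, 0, 0, 0, -1, -1, -1, 0, 0, 0, -1, 2, 0, -1, 0, -1, 3, -1, 1, -1, 1, 0, 0, 0, 0, 1,
    0, 0, 0, -1, -1, 1, 0, 0, -1, 0]

/-- degree 345345 -/
def r12 : List ℤ := [345345, -511, 377, 33, 13299, 69, -39, -21, 1617, -15, 1, -23, 1, 5, 350, -10, -5, 179, -1, -19,
    89, 5, -7, -3, -1, 3, 35, 0, 25, 1, 5, -3, 1, 1, 6, -3, -3, 14, 2, 2, 4, -1, -2, 0, -21, 3, 7, -3, -3, 1, -3, 1, 1,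
    1, -3, 1, -1, 0, -1, 0, -1, -1, -1, -1, 1, -1, -1, 2, -1, -1, 2, 0, 1, -1, -1, 0, 0, 0, -5, -1, 1, 1, 1, 1, 0, 1, 0,
    -1, -1, -1, -1, 1, 0, 0, 0, 0, 0, -1, -1]

/-- degree 376740 -/
def r13 : List ℤ := [376740, 3492, -364, 100, -1638, 441, 9, 36, 132, -60, 100, -12, 0, -12, -35, 40, -10, 90, 14, 9, 9,
    9, 9, 1, -4, 4, 0, 7, -4, -4, -4, -4, 0, 4, 0, 0, 0, -3, -4, 1, 2, 2, 0, 1, -30, -6, 6, -3, -3, 0, -3, -3, 1, 1, -3,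
    0, 0, 0, 0, -1, -8, 7, 1, 1, -1, 0, 0, 0, 0, 0, -3, -2, 0, 0, 0, 1, 1, 0, 2, 2, -1, 0, -1, 1, 0, 0, -1, 0, 1, -1,
    -1, -1, 1, 0, 0, 0, 1, 0, 0]

/-- degree 483000 -/
def r14 : List ℤ := [483000, -840, -600, 120, 14730, 195, -30, 0, 1624, 24, -40, 8, 0, 0, 300, 0, 0, -54, 30, -45, 90,
    3, 6, 3, 0, 0, 14, 0, -40, 8, 16, 0, 0, 0, -3, 0, -6, -20, 0, 0, 0, 0, 0, 1, -14, -6, -10, 4, -5, 0, 3, -1, 2, -1,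
    0, 0, 0, -2, 2, 0, -15, 0, 0, 0, 0, 0, 0, -3, 0, 0, 4, 0, 0, 2, -1, 0, -1, 0, 2, -2, -1, 0, -1, 0, -2, 0, 0, 1, 0,
    0, 0, 0, 1, -1, 1, 1, 0, 2, 1]

/-- degree 644644 -/
def r15 : List ℤ := [644644, 3108, 1092, 484, 5005, 217, 100, 49, -28, 36, 20, 68, 28, 4, 14, -1, -6, 141, 21, 15, -12,
    9, 12, 7, 9, 1, 0, 0, 20, 4, 4, 4, 4, 0, 1, 4, -2, -2, 7, 2, 3, -2, -1, 0, 29, -3, 5, 8, 5, 1, 3, 5, -4, -1, 0, 1,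
    1, 0, 0, 0, 5, 5, -1, 2, 0, 0, 0, -3, 0, 0, 2, -1, 0, 0, 0, 0, 0, 0, 5, 1, -1, 1, 1, 0, 0, 0, 0, 1, -1, 1, -2, 0, 0,
    0, -1, 0, 0, 0, -1]

/-- degree 822250 -/
def r16 : List ℤ := [822250, 1770, -910, 330, 17875, -125, -35, 43, 1562, -6, 10, 2, -14, -10, 225, 0, 0, -45, 35, 45,
    45, 3, -3, -3, -1, 3, 16, -5, -46, 10, -10, -2, 2, 2, 1, -2, 4, -15, 0, 5, 0, 0, 0, 0, 35, 3, -13, 5, 11, -5, -3,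
    -1, 1, 1, -3, 1, -1, 0, 0, -1, 0, 0, 3, 0, 0, 0, 0, -3, 0, 0, -3, 0, 0, 4, 1, 1, 0, 0, -1, -1, -1, -1, 1, -1, 0, 0,
    1, 0, -1, 0, 0, 0, 0, 1, -1, 0, -1, 0, 0]

/-- degree 871884 -/
def r17 : List ℤ := [871884, 972, 1612, 396, 15795, 0, 0, 27, 972, 12, -36, 12, 28, -4, 134, 9, 9, 243, 55, 0, 0, 0, 0,
    0, 7, 3, 6, -1, 60, 12, -4, -4, 4, 0, 0, 0, 0, 22, -3, 2, -3, -3, 1, 2, 27, 3, 15, 0, 0, 1, 0, 0, 0, 0, 0, 1, -1, 0,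
    2, -1, -10, 0, 2, 0, 0, 0, 0, 0, 0, 0, 2, 1, -1, 3, 0, -1, 0, 0, 3, -1, 0, 1, 0, 0, 0, 0, -1, -2, 2, 0, 0, 0, -1, 1,
    0, 0, 0, -1, 2]

/-- degree 1434510 -/
def r18 : List ℤ := [1434510, -882, 246, -594, 32967, 0, 81, 0, 2814, 30, 30, 6, 6, -6, 435, -15, 10, 135, -69, 0, 81,
    0, 9, 0, 0, 0, 21, 0, 6, -18, -6, 2, -2, 2, 0, 0, 0, 3, 1, -9, 3, -2, 1, 0, -33, -9, 3, -3, 0, -3, 0, 0, -3, 0, -3,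
    0, 0, -1, 1, 0, 12, -3, 0, 0, 1, 0, 0, 0, 0, 0, -1, -1, 0, -3, 0, 0, 0, 0, 3, 3, 0, 1, 0, -1, -1, -1, 0, 0, 0, 1, 1,
    0, 0, 1, 0, -1, 1, 1, 2]

/-- degree 1450449 -/
def r19 : List ℤ := [1450449, 4305, 1001, -847, 18018, 252, 144, 63, 609, 65, 1, -39, -7, 5, 84, 14, -1, 354, -70, 30,
    -24, 12, 12, -10, -1, -1, 0, 0, 25, -15, 5, -3, 1, -3, 0, 0, 0, 20, 6, -4, 0, -5, -2, 0, 66, 2, -6, 6, 0, 2, 2, 0,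
    4, -2, 2, -1, -1, 0, 0, 0, 3, 8, 3, 2, -1, -1, -1, 0, 0, 0, 4, 0, 1, 0, 0, 0, 0, 0, -2, 2, -2, -2, 0, 0, 0, 0, 0,
    -1, -1, 0, 1, 0, 0, 0, 0, 0, 0, 0, 1]

/-- degree 1771000 -/
def r20 : List ℤ := [1771000, -3080, 40, 440, 28600, 295, 70, 28, 2072, -40, -40, 8, 0, 0, 225, 0, 0, -200, 40, -65, 70,
    7, -2, -1, 4, -4, -14, 0, 24, 8, 16, 0, 0, 0, -11, 1, -5, -15, 0, 5, 0, 0, 0, 0, -40, 8, 8, 2, -1, 0, -1, -1, 2, -1,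
    2, 0, 0, -3, -2, 0, 0, 0, 3, 0, 0, 0, 0, 1, 1, 1, -3, 0, 0, -2, 1, 0, 0, 0, 0, 4, 3, 0, -1, 0, 1, 0, 0, 0, -1, 0, 0,
    0, 0, 1, -1, 0, -1, -2, 0]

/-- degree 1821600 -/
def r21 : List ℤ := [1821600, 9120, 352, -352, -792, 1098, -90, -36, 288, 32, 160, -32, 0, 0, -70, 70, 0, -24, -8, 30,
    30, -6, -6, -10, 4, -4, -10, 11, 0, 0, 0, 0, 0, 0, 0, 0, 0, 10, 2, 2, 0, 0, -2, 0, -24, 8, -8, 0, 6, 0, 2, -2, -2,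
    -2, -4, 0, 0, 1, 2, -1, -7, -2, -1, -2, 0, 0, 0, 0, 0, 0, -2, 0, 0, -1, -1, -1, 0, 0, 0, 0, 0, 0, 0, 0, 1, 0, 1, 1,
    -1, 2, 0, 0, 0, 0, 0, 1, 0, -1, 1]

/-- degree 2055625 -/
def r22 : List ℤ := [2055625, 7625, 1625, -55, -3575, 160, -290, 85, 105, 105, 25, 57, 13, 25, 0, 0, 0, -55, 5, -10,
    -10, 32, 2, -10, 5, 5, 5, -2, -15, 1, 1, 1, 5, -3, -2, -5, 1, 0, 0, 0, 0, 0, 0, 0, -15, 9, -3, -12, 0, -5, 6, 0, -2,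
    -2, 0, 1, 1, 0, 1, 2, 0, 0, 0, 0, 0, 1, 1, 2, -1, -1, 0, 0, 0, 2, -1, 1, 0, 0, -3, 1, 0, -1, -2, 0, 0, -1, 0, 0, 0,
    0, 0, 0, 0, 0, 0, 0, 0, -2, 0]

/-- degree 2417415 -/
def r23 : List ℤ := [2417415, 5383, -1001, 583, 3003, 231, -165, 84, -217, -25, 71, -73, -21, -9, 35, -5, 15, -5, 7,
    -41, -5, 7, 19, 7, 4, 4, 0, 0, -1, -1, -1, -1, -5, 7, -3, 3, 0, 3, -1, -1, -7, 3, 3, 0, 35, 11, -1, -1, -1, -3, -1,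
    -1, -1, -1, -1, 0, 0, 0, 0, 0, 8, -2, -1, 1, 0, -1, -1, 1, -2, 1, 3, 1, 1, 0, 0, 0, 0, 0, -1, -1, -1, 1, -1, 1, 0,
    0, 0, 0, -1, 2, 0, -1, 0, 0, -1, 0, -1, 0, 0]

/-- degree 2816856 -/
def r24 : List ℤ := [2816856, 10584, -1080, 792, 18954, 729, 0, 0, 504, -72, 120, 40, 0, 0, 36, 26, 6, -54, 54, 81, 0,
    9, 0, 9, 0, 0, -14, 0, -40, 8, 16, 0, 0, 0, 0, 0, 0, 4, -10, 0, 4, -6, 2, -2, 66, -6, -2, 0, -3, 0, -3, 1, 0, -3, 0,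
    0, 0, 3, -2, 0, 9, -1, 0, -1, 0, 0, 0, 0, 0, 0, 4, 0, 0, -2, 1, 0, 0, 0, 2, -2, -1, 0, -1, 0, -1, 0, 0, 1, 0, -1, 0,
    1, 1, 1, 0, 0, 0, -2, 1]

/-- degree 2877875 -/
def r25 : List ℤ := [2877875, 1715, 715, -429, 20735, 701, -55, 35, 1155, 35, -45, -5, -1, -1, 0, 25, 0, -385, -41, 11,
    65, -19, 5, 3, -5, 3, -35, 0, 35, -5, 23, -1, -1, -5, -10, -1, -1, 0, 5, 0, -5, 0, 1, 0, 15, -1, 7, 3, 9, -1, -1, 1,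
    -3, 3, -1, -1, -1, 0, 1, 0, 0, -5, 0, 1, 0, 1, 1, 2, -1, -1, 0, -1, 0, 1, 1, 0, 0, 0, -1, -1, -1, -1, 1, 1, 0, -1,
    0, 0, 0, -1, 0, 1, 0, 0, 0, 0, 0, 1, 0]

/-- degree 4100096 -/
def r26 : List ℤ := [4100096, 4096, 0, 0, 64064, 56, -16, -64, 4096, 0, 0, 0, 0, 0, 476, 16, -4, 64, 0, 64, 64, -8, -8,
    0, 0, 0, 0, -7, 0, 0, 0, 0, 0, 0, -7, -1, 5, -4, 0, 0, -4, -4, 0, 0, 64, 0, 0, -8, -8, 0, 0, 0, 0, 0, 0, 0, 0, 0, 0,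
    1, -1, 4, -4, 1, -1, 0, 0, 1, 1, 1, -4, 0, 0, 0, 0, -1, 0, 1, 0, 0, 0, 0, 0, 0, 0, 0, 1, -1, 0, 0, -1, -1, 0, 0, 1,
    0, 0, 0, -1]

/-- degree 5494125 -/
def r27 : List ℤ := [5494125, 19565, 1365, 1101, -1365, 966, 165, 0, -35, 61, 205, 37, 21, 9, 0, 25, 0, -85, -21, -4, 5,
    38, -19, 12, 0, 0, 0, 0, 5, -3, -7, 1, 5, 5, 3, 0, -3, 0, 5, 0, -5, 0, 1, -1, -5, -5, -5, 1, -2, 3, 4, -2, 1, 4, 1,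
    0, 0, 0, 0, 0, 0, -5, 0, 1, 0, -1, -1, -1, -1, 2, 0, -1, 0, 0, 0, 0, 1, 0, -1, -1, 2, -1, 0, -1, 0, 0, 0, 0, 0, -1,
    0, 1, -1, 0, 1, 0, 0, 0, 0]

/-- degree 5801796 -/
def r28 : List ℤ := [5801796, -4284, -364, 836, -9009, 441, 90, 63, 420, 36, -76, -12, -28, -4, -84, 1, 21, 207, -49,
    -9, 18, 9, -18, -1, -1, -1, 0, 0, -28, 4, -4, 12, -4, 0, 0, 0, 0, -4, 1, -4, 1, 1, 1, 0, 15, 15, 15, -12, -3, -1, 3,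
    -3, 2, -1, 0, -1, -1, 0, 0, 0, 6, 1, 3, 1, 0, 0, 0, 0, 0, 0, 0, 1, -1, 0, 0, 0, 0, 0, -1, -1, -1, -1, 1, 0, 0, 0, 0,
    2, -1, 1, -2, 1, 0, 0, 0, 0, 2, 0, 0]

/-- degree 7628985 -/
def r29 : List ℤ := [7628985, -1863, 1001, 441, 88452, 0, 0, -27, 4185, -39, 9, 9, -7, 1, 385, -15, -15, 324, 56, 0, 0,
    0, 0, 0, -7, -3, 0, 7, 9, 9, -15, 1, 1, -3, 0, 0, 0, 17, 1, 1, -3, -3, 1, 1, -36, -12, 0, 0, 0, 2, 0, 0, 0, 0, 0,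
    -1, 1, 0, 0, -1, 7, -3, -2, 0, 0, 1, 1, 0, 0, 0, 5, 1, -1, 0, 0, 1, 1, 0, 0, 0, 0, -2, 0, 0, 0, 0, -1, -1, -2, 1, 0,
    0, 1, 0, 0, 0, -1, 0, -1]

/-- degree 9221850 -/
def r30 : List ℤ := [9221850, -5670, -1598, -198, 82863, 0, 0, 27, 3402, 42, 90, 18, -14, -10, 230, -30, 0, -81, -41, 0,
    0, 0, 0, 0, 7, 3, -6, 8, -30, -6, -10, -2, 2, -6, 0, 0, 0, -10, 2, 2, 0, 0, 2, 0, -81, 15, -9, 0, 0, -5, 0, 0, 0, 0,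
    0, 1, -1, 1, -2, 0, 23, 3, 2, 0, 0, 0, 0, 0, 0, 0, 2, 0, 0, -3, 0, -1, 0, 0, 3, -1, 0, -1, 0, 0, 1, 0, 0, -1, 2, -1,
    0, 0, 0, -1, 0, 1, 0, 1, -1]

/-- degree 9669660 -/
def r31 : List ℤ := [9669660, 28, 364, 924, 93093, -210, -174, 21, 3836, -4, -20, -52, -28, 4, 280, 15, 10, 229, 49,
    -50, -14, -2, 10, 6, 1, -3, 0, 0, 12, 12, -12, 4, -4, 0, -3, 3, 0, 8, -1, 4, 3, -2, -1, 0, 29, 5, -7, 2, 2, -1, 2,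
    2, -2, -2, 2, -1, 1, 0, 0, 0, -17, 3, 1, 0, 1, 0, 0, 1, -2, 1, -4, -1, 0, 0, 0, 0, 0, 0, -3, -3, 0, -1, 0, 0, 0, 0,
    0, -1, 1, -1, 1, 0, 0, 0, -1, 0, 2, 0, -1]

/-- degree 12432420 -/
def r32 : List ℤ := [12432420, 8484, 2028, 2244, 61776, 54, 54, 0, 1428, 52, 20, -4, 0, 24, 15, -25, 20, -48, 120, 114,
    6, 6, 6, -6, 0, 0, -14, 0, 36, 12, 0, 8, 0, 0, 0, 0, 0, -1, 3, 3, -1, 4, -1, 0, 0, 16, 8, 6, -6, 0, -2, 2, 2, 2, -2,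
    0, 0, 0, -2, 0, 6, -4, 0, -1, -1, 2, -2, 0, 0, 0, 3, -1, 0, 1, -2, 0, 0, 0, 0, 0, 0, 0, 0, 0, 0, 0, 0, 2, 0, 0, 1,
    -1, 0, 1, 0, 0, 1, 1, 0]

/-- degree 16347825 -/
def r33 : List ℤ := [16347825, 35505, -351, 945, -18954, 1458, 0, 0, 657, -111, 225, 65, -27, -15, -90, 40, 0, 54, -54,
    0, 0, 18, 0, 0, 0, 0, 11, -3, 25, 9, -7, -7, -3, -3, 0, 0, 0, -10, 4, -6, 0, 0, 0, -1, -66, 6, 2, 0, -6, 0, 0, 2, 0,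
    0, 0, 0, 0, 0, -1, 1, -9, 1, 0, -2, 0, 1, 1, 0, 0, 0, 2, 0, 0, 2, 2, 0, -1, 0, -2, 2, -2, 0, 0, 0, 0, 1, -1, -1, 0,
    1, 0, 0, -1, 1, 0, 0, 0, 2, -1]

/-- degree 20083140 -/
def r34 : List ℤ := [20083140, 19908, -924, -1980, -24948, 1701, 405, 0, 1092, 68, 36, -92, 0, 12, -210, 40, 15, 396,
    84, -9, 45, -27, 9, -9, 0, 0, 0, 0, -20, -4, -12, 4, 0, -4, 0, 0, 0, -2, -4, 6, -2, 3, 0, 0, -36, -4, 4, 3, -3, 0,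
    -1, 1, -3, 3, -1, 0, 0, -1, 0, 0, -3, 7, 0, 1, 0, 0, 0, 0, 0, 0, 2, 2, 1, 0, 0, 0, 0, 0, 4, 0, 1, 0, -1, -1, -1, 0,
    0, 1, 0, -1, 0, 1, 0, 0, 0, -1, 0, 0, -1]

/-- degree 21049875 -/
def r35 : List ℤ := [21049875, 2835, -2325, -1485, 160380, 0, 0, 0, 5859, 3, -45, 27, 15, 15, 300, 0, 0, -324, -120, 0,
    0, 0, 0, 0, 0, 0, -21, 0, -45, -21, -9, -1, -1, 3, 0, 0, 0, -20, 0, 0, 0, 0, 0, 0, 36, 12, 0, 0, 0, 6, 0, 0, 0, 0,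
    0, 0, 0, 2, -1, 0, -15, 0, 0, 0, 0, 1, 1, 0, 0, 0, 4, 0, 0, 3, 0, 0, 0, -1, 0, 0, 0, 2, 0, 0, 2, 1, 0, 1, 0, 0, 0,
    0, 0, -1, 0, -1, 0, -1, 1]

/-- degree 21528000 -/
def r36 : List ℤ := [21528000, -6720, 4160, -320, 138060, 90, -180, 36, 3264, -64, 0, 64, 0, 0, 175, 0, 0, 588, 20, -60,
    -60, -6, -24, 4, -4, 4, -10, 4, 64, 0, 0, 0, 0, 0, 0, 0, 0, 15, 0, -5, 0, 0, 0, -1, -36, -4, 4, 6, -6, 0, -4, -2, 0,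
    0, 2, 0, 0, 0, 2, 0, -5, 0, 1, 0, 0, 0, 0, 0, 0, 0, -1, 0, 0, -1, -1, 1, -1, 0, 4, 0, -2, 0, 0, 0, 0, 0, 2, 3, 1, 0,
    0, 0, -1, 0, 0, 0, -1, -1, -1]

/-- degree 21579129 -/
def r37 : List ℤ := [21579129, -7047, -2223, 1881, 0, 0, 0, 162, -567, 297, 9, -63, -27, -11, 99, 9, -21, 0, 0, 0, 0, 0,
    0, 0, 6, -6, -9, -2, 9, -15, -3, 5, -3, -3, 0, 0, 0, 3, -3, 7, 3, 3, 1, 0, 0, 0, 0, 0, 0, 0, 0, 0, 0, 0, 0, 0, -2,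
    0, 3, 2, 0, 0, -3, 0, 0, -1, -1, 0, 0, 0, 3, -1, -1, 0, 0, 1, 0, 0, 0, 0, 0, 0, 0, 0, 0, 1, 0, 0, 1, 0, 0, 0, 0, 1,
    0, 0, -1, 0, 0]

/-- degree 23244375 -/
def r38 : List ℤ := [23244375, -6825, 2975, 55, -23100, -105, 345, 105, 455, 167, 55, 47, 35, -5, 0, 0, 0, -60, 140,
    -15, -15, -9, -3, 1, 5, 1, 0, 0, -25, -17, 3, -5, 3, -1, 3, 6, 0, 0, 0, 0, 0, 0, 0, 0, 20, 20, -4, -13, -1, 8, -7,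
    -1, 1, 1, -1, -1, 1, -2, 0, 0, 0, 0, 0, 0, 0, 1, 1, 3, 0, 0, 0, 0, 0, 0, 0, 0, 0, 0, -4, 0, -1, 0, 1, -1, -2, 0, 0,
    0, 0, 0, 0, 0, 0, 0, -1, 1, 0, 0, 0]

/-- degree 24174150 -/
def r39 : List ℤ := [24174150, 9030, 5278, 1254, 57057, 798, -30, 21, -938, 118, 70, -50, 14, 10, 70, -20, 0, 609, 49,
    -30, -30, -18, -6, -6, 1, -3, 0, 0, 30, 6, 10, 2, -2, 6, -3, -6, 0, -10, 8, -2, 0, 0, 4, 0, 49, 1, 1, -2, 10, 5, -2,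
    -2, -2, -2, -2, -1, 1, 0, 0, 0, 7, 7, 1, -2, 0, 0, 0, -3, 0, 0, 2, 0, 0, 0, 0, 0, 0, 0, -3, 1, 0, 1, 0, 0, 0, 0, 0,
    -1, 1, -1, 0, 0, 0, 0, 1, 0, 0, 0, -1]

/-- degree 24667500 -/
def r40 : List ℤ := [24667500, 27500, -1300, 2860, -10725, -15, 300, 105, -20, 44, 60, 44, -28, -20, 0, 0, 0, 155, -85,
    -25, 20, 17, 32, 7, 5, 1, -10, -3, -20, -4, -4, -4, -4, 0, 3, -3, 0, 0, 0, 0, 0, 0, 0, 0, -5, 11, 11, -2, 1, -1, -1,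
    5, 0, 3, 2, -1, 1, 0, 2, -3, 0, 0, 0, 0, 0, 0, 0, -1, 2, -1, 0, 0, 0, -1, -1, 0, 0, 0, -5, -1, 1, -1, -1, 0, 0, 0,
    1, 0, 0, 0, 0, 0, 0, 0, 1, 0, 0, -1, 0]

/-- degree 24794000 -/
def r41 : List ℤ := [24794000, 28560, 560, 3344, 40040, 854, 440, -70, -560, 80, 80, 112, 0, 16, 0, -25, 0, 360, 56, 54,
    0, 6, 12, 14, -10, 2, 0, 0, 0, 0, 0, 0, 0, 0, -1, 2, -4, 0, -5, 0, 5, 0, -1, 0, 40, 8, -8, -2, 10, 0, 2, -2, -4, 2,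
    2, 0, -2, -3, 0, 0, 0, 5, 0, -1, 0, 0, 0, 3, 0, 0, 0, 1, 0, 0, 0, 0, 0, 0, 0, 0, 0, 0, 0, 0, 1, 0, 0, 0, 0, 1, 0,
    -1, 0, 0, 1, 0, 0, 0, 0]

/-- degree 25900875 -/
def r42 : List ℤ := [25900875, -11445, 3835, 715, 32175, 1260, 315, -63, 1323, -85, -165, 27, -41, -5, -225, 0, 0, -465,
    55, -60, 75, 12, 3, 4, 1, 1, -21, 0, 51, 3, 3, 3, -1, -1, 0, 0, 0, 15, 0, -5, 0, 0, 0, 0, 15, -1, -9, -9, 12, -5,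
    -4, 0, 3, 0, -1, 1, 1, 0, -1, 0, 0, 0, -3, 0, 0, -1, -1, 0, 0, 0, 3, 0, 0, 3, 0, 0, 0, 0, 3, 3, 0, -1, 0, -1, 0, 1,
    0, 0, 1, 0, 0, 0, 0, -1, 0, 0, 1, -1, 0]

/-- degree 31574400 -/
def r43 : List ℤ := [31574400, -5760, 3328, 1408, 140712, -300, 60, 84, 2176, 128, 0, 0, 0, 0, 20, 30, 0, 552, 16, -60,
    -60, -12, 0, 4, 4, 4, 4, -3, 0, 0, 0, 0, 0, 0, -3, -6, 0, 20, -2, 8, 0, 0, -2, 0, -8, 8, 0, -2, 4, 0, -4, 0, 0, 0,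
    2, 0, 0, 0, -4, 1, 2, -3, -1, 0, 0, 0, 0, -3, 0, 0, -4, 0, 0, -2, 1, 0, 0, 0, 0, 0, 0, 0, 0, 0, 0, 0, -1, 2, -1, 1,
    0, 0, 0, -1, 1, 0, 0, 2, 2]

/-- degree 40166280 -/
def r44 : List ℤ := [40166280, 7560, 2520, -1848, 187110, -567, 324, 0, 4200, -88, -24, -8, 0, 0, 0, 10, 5, -90, -126,
    45, -36, 9, 0, -3, 0, 0, 0, 0, 40, -8, -16, 0, 0, 0, 0, 0, 0, 0, -10, 0, 0, 5, 2, 0, 30, -10, 10, 6, 9, 0, 5, 1, 0,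
    -3, 2, 0, 0, -2, 0, 0, 0, -5, 0, -2, -1, 0, 0, 0, 0, 0, 0, 0, 1, 0, 0, 0, 0, 0, -2, 2, 1, 0, 1, 0, -2, 0, 0, 0, 0,
    -1, -1, 0, 0, 0, 0, 1, 0, 0, 0]

/-- degree 40370176 -/
def r45 : List ℤ := [40370176, 0, 8192, 0, 22528, -512, 640, 112, 0, 0, 0, 0, 0, 0, -64, 16, -24, 0, 128, 0, 0, 0, 0, 0,
    8, 0, 14, 0, 0, 0, 0, 0, 0, 0, -8, 4, -2, 0, -8, -8, 0, 0, 0, 0, 0, 0, 0, 0, 0, 0, 0, 0, 0, 0, 0, 0, 0, 2, 2, 0, 8,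
    -2, 2, -2, 0, 0, 0, 0, 0, 0, 0, 0, 0, 2, -1, 0, 0, 1, 0, 0, 0, 0, 0, 0, 2, 0, 0, 0, -2, -2, 0, 0, 0, -1, 0, -1, 0,
    2, 0]

/-- degree 44013375 -/
def r46 : List ℤ := [44013375, -16065, -1665, 639, 189540, 729, 0, 0, 4095, 63, 15, -65, 27, -9, 0, -25, 0, -540, 36,
    -81, 0, 9, 0, -9, 0, 0, -35, 0, -25, 7, 15, -1, 3, 3, 0, 0, 0, 0, -5, 0, 5, 0, -1, -1, -60, -12, 4, 0, -3, 0, 3, 1,
    0, 3, 0, 0, 0, 3, 1, 0, 0, 5, 0, -1, 0, -1, -1, 0, 0, 0, 0, 1, 0, 1, 1, 0, 1, 0, -4, 0, -1, 0, 1, 0, -1, -1, 0, 0,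
    0, 1, 0, -1, -1, 0, 0, 0, 0, 1, 0]

/-- degree 46621575 -/
def r47 : List ℤ := [46621575, 11655, -6201, -825, 138996, -567, -405, 0, 2247, 7, -105, 7, 27, 15, -90, 40, 0, -396,
    36, -45, -45, 9, -9, 3, 0, 0, 21, 0, -65, -1, -9, 7, 3, -5, 0, 0, 0, -10, 4, -6, 0, 0, 0, 0, 84, 4, 4, -3, 9, 0, -5,
    1, 3, 3, 1, 0, 0, 0, 1, 0, -9, 1, 0, -2, 0, -1, -1, 0, 0, 0, 2, 0, 0, -3, 0, 0, 0, 0, 4, 0, 1, 0, -1, 1, 0, -1, 0,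
    -1, 0, 1, 0, 0, 0, 1, 0, 0, 0, 1, -1]

/-- degree 51571520 -/
def r48 : List ℤ := [51571520, 33600, 0, -3520, 40040, 1610, 656, 56, -1344, -64, 64, -128, 0, 0, 140, 0, -5, -24, 0,
    30, -24, -6, 12, -10, 0, 8, 0, 0, 0, 0, 0, 0, 0, 0, 8, 2, -4, -20, 0, 0, 0, -5, 0, 0, 24, 8, 16, 6, 6, 0, 2, -2, 4,
    -2, 2, 0, 0, 0, 0, 0, 5, 0, -4, 0, 1, 0, 0, 0, 0, 0, -4, 0, -1, 0, 0, 0, 0, 0, 0, 0, 0, 0, 0, 0, 0, 0, 0, 1, 0, 0,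
    1, 0, 0, 0, 0, 0, 0, 0, -1]

/-- degree 55255200 -/
def r49 : List ℤ := [55255200, 61600, -4576, -352, 27456, 2022, -570, -84, -1120, -96, 160, 32, 0, 0, 160, -10, 0, -320,
    -40, -50, -50, 22, -14, -10, -4, -4, 14, 0, 0, 0, 0, 0, 0, 0, -3, -3, -3, 0, -6, 4, 0, 0, -2, 0, 80, 0, 8, -4, 2, 0,
    -6, 2, -2, -2, 0, 0, 0, 0, 2, 0, 16, -4, 1, 2, 0, 0, 0, 1, 1, 1, 0, 0, 0, 2, -1, 0, 0, 0, 0, 0, 0, 0, 0, 0, 0, 0, 0,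
    0, 1, 0, 0, 0, 0, -1, -1, 0, 0, 2, 0]

/-- degree 57544344 -/
def r50 : List ℤ := [57544344, 8856, -936, 792, 208494, -729, 0, 0, 4248, 24, 120, -40, 0, -24, -126, -11, -6, -594, 90,
    81, 0, -9, 0, 9, 0, 0, -10, -3, 40, 8, -8, -8, 0, 0, 0, 0, 0, -14, 9, -6, 1, 6, -3, 0, 6, -18, 2, 0, 3, 0, -3, -1,
    0, -3, 0, 0, 0, 0, 2, 1, 9, 4, 0, 1, 0, 0, 0, 0, 0, 0, -2, 1, 0, -1, -1, 0, 0, 0, -2, -2, 1, 0, -1, 0, 0, 0, -1, 1,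
    0, 0, 0, 1, 0, 0, 0, 0, 0, -1, 1]

/-- degree 60435375 -/
def r51 : List ℤ := [60435375, -8785, -3185, 3311, 210210, -84, 330, -105, 2415, 47, -65, 15, 7, -1, 0, 25, 0, 290, 154,
    -34, -70, -4, 26, -10, -5, -1, 0, 0, -65, 15, -1, -1, -1, 3, 6, 3, 0, 0, 5, 0, -5, 0, 1, 0, -30, 2, -6, -6, 0, -2,
    2, 0, -2, -2, 2, 1, -1, 0, 0, 0, 0, -5, 0, 1, 0, -1, -1, 2, 2, -1, 0, -1, 0, 0, 0, 0, 0, 0, -2, 2, -2, 2, 0, 0, 0,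
    0, 0, 0, 0, -1, 0, 1, 0, 0, 0, 0, 0, 0, 0]

/-- degree 65270205 -/
def r52 : List ℤ := [65270205, 189, -3003, -99, -81081, 1701, -324, 0, 2541, -179, -195, 85, 21, 9, -315, 25, -20, 711,
    -105, 9, 36, -27, 0, 9, 0, 0, 0, 0, -11, 13, -7, 1, 5, -3, 0, 0, 0, -11, -3, -3, -1, 4, 1, 0, -9, 7, 7, -6, -3, 3,
    1, 1, 0, -3, -2, 0, 0, 0, 0, 0, 9, 4, 0, 1, 1, -1, -1, 0, 0, 0, 1, -1, 0, 0, 0, 0, 0, 0, -5, -1, 1, -1, 1, 0, 0, 0,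
    0, 1, 0, 0, 1, -1, 0, 0, 0, 0, -1, 0, 1]

/-- degree 66602250 -/
def r53 : List ℤ := [66602250, 51210, 4290, 1386, -57915, 1701, -405, 0, 1050, 250, 90, -14, 6, 6, 0, 25, 0, -315, 69,
    9, -45, -27, -9, 9, 0, 0, 15, -6, 10, -14, -2, 6, -2, -2, 0, 0, 0, 0, 5, 0, 5, 0, 1, 0, -75, -11, -11, -3, -3, -3,
    1, 1, 3, -3, 1, 0, 0, 0, -1, -2, 0, -5, 0, 1, 0, 0, 0, 0, 0, 0, 0, 1, 0, 3, 0, 0, 0, 0, 1, 1, 1, 1, 1, 1, 0, -1, 0,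
    0, 0, -1, 0, -1, 0, 0, 0, 0, 0, -1, 0]

/-- degree 77702625 -/
def r54 : List ℤ := [77702625, -34335, -975, 2145, -19305, 1755, -270, 0, 1281, 129, -175, 17, 21, -15, -300, 0, 0, 279,
    15, -45, 90, 27, -18, 3, 0, 0, -14, 0, -55, -7, -7, -7, -3, -3, 0, 0, 0, 20, 0, 0, 0, 0, 0, 0, 39, -9, -1, 12, 3, 3,
    3, -1, 2, -1, 0, 0, 0, 0, -2, 0, 15, 0, 0, 0, 0, 1, 1, 0, 0, 0, -4, 0, 0, 1, -2, 0, 0, 0, -1, -1, -1, 3, -1, 0, 0,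
    0, 0, -1, 0, 0, 0, 0, 0, 1, 0, 0, 0, 1, -1]

/-- degree 83720000 -/
def r55 : List ℤ := [83720000, 59200, 0, 320, -63700, 560, 20, 20, 960, -64, 0, 128, -56, 0, 0, 0, 0, -20, 0, -20, -20,
    16, 16, -4, 0, -4, 0, -7, 0, 0, 0, 0, 8, 0, 2, 2, 2, 0, 0, 0, 0, 0, 0, 1, -60, -4, 8, 6, 0, -2, -4, -4, 0, 0, 2, -2,
    0, 0, 0, 1, 0, 0, 0, 0, 0, 0, 0, -2, -2, -2, 0, 0, 0, 0, 0, -1, 1, 0, 0, 0, 0, 2, 0, 0, 0, 0, 1, 0, 0, 0, 0, 0, 1,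
    0, 0, 0, 0, 0, 0]

/-- degree 85250880 -/
def r56 : List ℤ := [85250880, 39744, 7488, 2112, 138996, -1134, -324, 0, 1344, 64, 0, 64, 0, 0, -225, 10, -20, -396,
    36, 36, 36, 18, 0, -12, 0, 0, -6, -6, 64, 0, 0, 0, 0, 0, 0, 0, 0, -1, -2, 3, 4, 4, 2, 0, 84, 4, 4, -6, -6, 0, 4, -2,
    0, 0, -2, 0, 0, 0, -2, -2, -9, 1, 0, 1, 1, 0, 0, 0, 0, 0, -1, 0, 0, -3, 0, 0, 0, 0, 4, 0, -2, 0, 0, 0, 0, 0, 0, -1,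
    0, 1, 1, 1, 0, -1, 0, 0, -1, 1, -1]

/-- degree 91547820 -/
def r57 : List ℤ := [91547820, 53676, 4212, -1332, 18954, 729, 0, 0, -1764, 60, 60, 4, 0, 0, 225, -10, -30, -54, 54,
    -81, 0, 9, 0, -9, 0, 0, -14, 0, -4, 4, -8, 0, 0, 0, 0, 0, 0, 1, 2, -3, -4, 6, -2, 1, 66, -6, -2, 0, -3, 0, 3, 1, 0,
    3, 0, 0, 0, 0, -2, 0, 9, -1, 0, -1, 0, -2, 2, 0, 0, 0, 1, 0, 0, -2, 1, 0, -1, 0, 2, -2, -1, 0, 1, 0, 0, 0, 0, 1, 0,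
    -1, 0, -1, 1, 1, 0, 0, 1, -2, 1]

/-- degree 100725625 -/
def r58 : List ℤ := [100725625, 15225, 6825, -2695, 275275, 595, -170, -140, 665, 25, -55, -55, -7, -15, 0, 0, 0, 1035,
    -105, 45, -90, 3, 6, 5, 0, -4, 0, 0, 25, -7, 17, 1, 1, -3, 1, 4, -2, 0, 0, 0, 0, 0, 0, 0, 35, -5, -1, -10, -1, -7,
    1, -1, 2, 5, -2, 2, 0, 0, 0, 0, 0, 0, 0, 0, 0, 1, 1, -3, 0, 0, 0, 0, 0, 0, 0, 0, 0, 0, -5, -1, 1, 1, -1, 0, 0, 0, 0,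
    0, 0, 0, 0, 0, 0, 0, -1, 0, 0, 0, 0]

/-- degree 106142400 -/
def r59 : List ℤ := [106142400, -25920, 11648, 1728, 88452, 0, 0, 216, -1728, -192, 0, 0, 56, 0, 70, 30, 0, 324, 56, 0,
    0, 0, 0, 0, -4, 0, 0, -7, 0, 0, 0, 0, -8, 0, 0, 0, 0, -10, -2, -2, 0, 0, -2, 1, -36, -12, 0, 0, 0, 2, 0, 0, 0, 0, 0,
    2, 0, 0, 0, 1, 7, -3, 1, 0, 0, 0, 0, 0, 0, 0, 2, 0, 0, 0, 0, -1, 1, -1, 0, 0, 0, -2, 0, 0, 0, 0, 1, -1, 1, 1, 0, 0,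
    1, 0, 0, 0, 0, 0, -1]

/-- degree 109882500 -/
def r60 : List ℤ := [109882500, 32900, -9100, 1540, 238875, 735, 330, 105, 420, -92, -140, 20, -28, -20, 0, 0, 0, 155,
    35, 65, -70, -1, -22, 1, 5, 1, 0, 0, -60, 4, 12, -4, -4, 0, 6, -3, -3, 0, 0, 0, 0, 0, 0, 2, 75, -5, -13, 6, -9, -1,
    1, -1, -2, 1, -2, -1, 1, 0, 0, 0, 0, 0, 0, 0, 0, 0, 0, 2, -1, -1, 0, 0, 0, 0, 0, 0, 0, 0, 3, 3, 3, -1, 1, 0, 0, 0,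
    0, 0, 0, 0, 0, 0, -1, 0, 0, 0, 0, 0, 0]

/-- degree 150732800 -/
def r61 : List ℤ := [150732800, 0, 4096, 0, 226304, 512, -640, 104, 0, 0, 0, 0, 64, 0, -160, -40, 0, 0, 64, 0, 0, 0, 0,
    0, 4, 0, 1, 8, 0, 0, 0, 0, 0, 0, 8, -4, 2, 0, -4, -4, 0, 0, 0, -2, 0, 0, 0, 0, 0, -8, 0, 0, 0, 0, 0, -2, 0, -3, 1,
    0, -16, -1, -1, 2, 0, 0, 0, 0, 0, 0, 0, 0, 0, 1, 1, -1, 0, 0, 0, 0, 0, 0, 0, 0, 1, 1, 0, 0, -1, -1, 0, 0, 1, 1, 0,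
    0, 0, 1, 0]

/-- degree 163478250 -/
def r62 : List ℤ := [163478250, -25110, -1950, -3510, 331695, 0, 0, 0, 2106, -102, 90, 18, -6, 30, -300, 0, 0, -81,
    -105, 0, 0, 0, 0, 0, 0, 0, -9, -9, -30, -6, 14, 6, 2, 6, 0, 0, 0, 20, 0, 0, 0, 0, 0, 1, -81, 15, -9, 0, 0, 3, 0, 0,
    0, 0, 0, 0, 0, 0, 3, -1, 15, 0, 0, 0, 0, 0, 0, 0, 0, 0, -4, 0, 0, 0, 0, 0, -1, 0, 3, -1, 0, -1, 0, 0, 0, 1, -1, -1,
    0, 0, 0, 0, 1, 1, 0, 0, 0, 0, -1]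

/-- degree 184184000 -/
def r63 : List ℤ := [184184000, 38080, 4160, 3520, 14300, -1090, -280, -28, 448, 192, 0, 64, 0, 0, -225, 0, 0, 220, 20,
    40, 40, -2, -8, -8, -4, 4, 14, 0, -64, 0, 0, 0, 0, 0, -10, -1, -1, 15, 0, -5, 0, 0, 0, 0, -20, 12, 4, 16, -2, 0, 0,
    -2, 0, 0, 0, 0, 0, 0, 2, 0, 0, 0, -3, 0, 0, 0, 0, -2, 1, 1, 3, 0, 0, -1, 2, 0, 0, 0, -4, 0, 2, 0, 0, 0, 0, 0, 0, 0,
    1, 0, 0, 0, 0, -1, -2, 0, 1, -1, 0]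

/-- degree 185912496 -/
def r64 : List ℤ := [185912496, 34992, 11088, 1584, 0, 0, 0, 162, -1296, -144, -144, 144, 0, 16, 126, -9, 21, 0, 0, 0,
    0, 0, 0, 0, 6, -6, 0, 7, 0, 0, 0, 0, 0, 0, 0, 0, 0, -18, 3, -2, -3, -3, -1, 0, 0, 0, 0, 0, 0, 0, 0, 0, 0, 0, 0, 0,
    -2, 3, 0, -1, 0, 0, -3, 0, 0, 0, 0, 0, 0, 0, -6, 1, 1, 0, 0, 1, 0, 0, 0, 0, 0, 0, 0, 0, -1, 0, -1, 0, 1, 0, 0, 0, 0,
    0, 0, 0, 0, 0, 0]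

/-- degree 185955000 -/
def r65 : List ℤ := [185955000, 35000, 4200, 3960, -150150, -525, 1410, 0, 2520, 152, -40, 72, 0, 0, 0, 0, 0, -70, -210,
    -25, -70, -13, -10, -9, 0, 0, 0, 0, -40, 8, 16, 0, 0, 0, 6, 0, 3, 0, 0, 0, 0, 0, 0, 0, -30, -22, 6, 0, 3, 0, -1, 3,
    2, -1, -4, 0, 0, -3, 0, 0, 0, 0, 0, 0, 0, 0, 0, 2, -1, 2, 0, 0, 0, 0, 0, 0, 0, 0, 2, -2, -1, 0, -1, 0, 1, 0, 0, 0,
    0, 0, 0, 0, 0, 0, 0, 0, 0, 0, 0]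

/-- degree 191102976 -/
def r66 : List ℤ := [191102976, 0, -4096, 0, 248832, 0, 0, 216, 0, 0, 0, 0, -64, 0, -224, -24, -24, 0, -64, 0, 0, 0, 0,
    0, -4, 0, 15, 8, 0, 0, 0, 0, 0, 0, 0, 0, 0, 0, 4, 4, 0, 0, 0, -2, 0, 0, 0, 0, 0, 8, 0, 0, 0, 0, 0, 2, 0, -1, -1, 0,
    -8, -3, 1, 0, 0, 0, 0, 0, 0, 0, 0, 0, 0, 3, 0, -1, 0, 1, 0, 0, 0, 0, 0, 0, -1, -1, 0, 0, 1, 1, 0, 0, 1, 0, 0, -1, 0,
    -1, 0]

/-- degree 201451250 -/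
def r67 : List ℤ := [201451250, 75250, -4550, -3630, -125125, -700, 470, 35, 1890, -190, -110, -54, 14, -10, 0, 0, 0,
    -5, 175, -50, -50, 52, 10, 6, -5, 3, 0, 0, 50, -6, 14, 6, -2, -6, 2, -1, 5, 0, 0, 0, 0, 0, 0, 0, -45, 11, -9, 0, 0,
    5, 2, 0, -2, -2, -4, -1, -1, 0, 0, 0, 0, 0, 0, 0, 0, 0, 0, -2, 1, 1, 0, 0, 0, 0, 0, 0, 0, 0, -1, -1, 2, 1, 0, 0, 0,
    0, 0, 0, 0, 0, 0, 0, 0, 0, 0, 0, 0, 0, 0]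

/-- degree 205395750 -/
def r68 : List ℤ := [205395750, 5670, -5810, -1530, -144585, 0, 0, 189, 2646, 54, -90, 30, -14, 10, -175, 0, 0, 567,
    175, 0, 0, 0, 0, 0, -11, -3, 0, 0, 6, -18, 2, -6, 2, 6, 0, 0, 0, -15, 0, 5, 0, 0, 0, -1, -9, -9, 15, 0, 0, -5, 0, 0,
    0, 0, 0, 1, 1, 1, 0, 0, 5, 0, -1, 0, 0, 0, 0, 0, 0, 0, 1, 0, 0, 0, 0, 0, -1, 0, 3, -1, 0, -1, 0, 0, 1, 0, 0, -3, -1,
    0, 0, 0, -1, 0, 0, 1, 1, 0, 1]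

/-- degree 207491625 -/
def r69 : List ℤ := [207491625, 27945, 8865, 3465, 0, 0, 0, -162, -1863, 153, -135, 81, -27, 5, 225, 0, 0, 0, 0, 0, 0,
    0, 0, 0, -6, 6, -9, 5, 9, -15, -3, 5, -3, -3, 0, 0, 0, -15, 0, 5, 0, 0, 0, 0, 0, 0, 0, 0, 0, 0, 0, 0, 0, 0, 0, 0, 2,
    3, 3, 1, 0, 0, 3, 0, 0, -1, -1, 0, 0, 0, -3, 0, 0, 0, 0, -1, 0, 0, 0, 0, 0, 0, 0, 0, -1, 1, -1, 0, -1, 0, 0, 0, 0,
    1, 0, 0, -1, 0, 0]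

/-- degree 210974400 -/
def r70 : List ℤ := [210974400, 20160, 0, -6720, 163800, -630, -144, 0, -2240, 64, 64, 128, 0, 0, 0, 0, 25, 600, 0, -30,
    24, -6, 36, -6, 0, 0, 0, 0, 0, 0, 0, 0, 0, 0, -9, 0, 0, 0, 0, 0, 0, 5, 0, -1, 40, -8, -16, 10, -2, 0, -2, 2, 4, -2,
    -2, 0, 0, 0, 0, 0, 0, 0, 0, 0, 1, 0, 0, 3, 0, 0, 0, 0, -1, 0, 0, 0, 1, 0, 0, 0, 0, 0, 0, 0, 0, 0, 0, 0, 0, 0, -1, 0,
    -1, 0, 1, 0, 0, 0, 0]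

/-- degree 215547904 -/
def r71 : List ℤ := [215547904, 65536, 0, 0, 73216, 1504, -224, 64, 0, 0, 0, 0, 0, 0, -176, -16, 4, -512, 0, 64, 64,
    -32, 16, 0, 0, 0, -16, -2, 0, 0, 0, 0, 0, 0, 10, 1, 1, 16, 0, 0, -4, -4, 0, 0, 0, 0, 0, 0, 0, 0, 0, 0, 0, 0, 0, 0,
    0, 0, 0, 2, -14, -4, 4, -1, 1, 0, 0, -2, 1, 1, 0, 0, 0, -4, -1, 1, 0, 0, 0, 0, 0, 0, 0, 0, 0, 0, 0, -2, 0, 0, -1,
    -1, 0, -1, 0, 0, 0, 0, 0]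

/-- degree 219648000 -/
def r72 : List ℤ := [219648000, -61440, 0, 0, 137280, 1560, -240, 0, -4096, 0, 0, 0, 0, 0, 300, 0, 0, 576, 0, 0, 0, 24,
    -24, 0, 0, 0, -16, -9, 0, 0, 0, 0, 0, 0, 3, 0, 6, -20, 0, 0, 0, 0, 0, 0, -64, 0, 0, 8, 8, 0, 0, 0, 0, 0, 0, 0, 0, 0,
    0, -1, -15, 0, 0, 0, 0, 0, 0, 3, 0, 0, 4, 0, 0, -4, -1, 0, 0, 1, 0, 0, 0, 0, 0, 0, 0, 0, -1, 1, 0, 0, 0, 0, 0, -1,
    -1, 0, 0, 0, 1]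

/-- degree 241741500 -/
def r73 : List ℤ := [241741500, 81340, 5460, 924, -60060, -21, -30, 0, 140, 108, 140, -124, 0, 24, 0, -25, 0, 100, -84,
    -89, 10, -5, -2, 15, 0, 0, 0, 0, -20, 4, 0, -8, 0, 0, -3, 0, 3, 0, -5, 0, -5, 0, -1, 0, 20, -12, -4, -4, -1, 0, 3,
    -1, 2, -1, 0, 0, 0, 0, 0, 0, 0, 5, 0, -1, 0, 2, -2, 1, 1, -2, 0, -1, 0, 0, 0, 0, 0, 0, 4, 0, 1, 0, 1, 0, 0, 0, 0, 0,
    0, 1, 0, 1, 0, 0, -1, 0, 0, 0, 0]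

/-- degree 247235625 -/
def r74 : List ℤ := [247235625, -60375, 6825, 4905, -61425, 945, 135, 0, 105, -23, -55, -87, 21, -15, 0, 0, 0, 15, -105,
    15, 15, 33, 51, -9, 0, 0, 0, 0, -15, 1, -7, 9, 5, 1, 0, 0, 0, 0, 0, 0, 0, 0, 0, -1, 15, -17, -9, -3, -3, 3, -5, -3,
    -1, -1, 1, 0, 0, 0, 0, 0, 0, 0, 0, 0, 0, 1, 1, 0, 0, 0, 0, 0, 0, 0, 0, 0, -1, 0, 3, -1, 3, -1, 1, 1, 0, 0, 0, 0, 0,
    0, 0, 0, -1, 0, 0, 0, 0, 0, 0]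

/-- degree 251756505 -/
def r75 : List ℤ := [251756505, -33831, -6903, 1881, 208494, -729, 0, 0, 441, 57, 105, 41, -27, 9, -315, 25, 30, -594,
    90, -81, 0, -9, 0, -9, 0, 0, 35, 0, 49, 1, 1, 1, -3, -3, 0, 0, 0, -11, -3, -3, -1, -6, 1, 0, 6, -18, 2, 0, 3, 0, 3,
    -1, 0, 3, 0, 0, 0, 0, -1, 0, 9, 4, 0, 1, 0, 1, 1, 0, 0, 0, 1, -1, 0, -1, -1, 0, 0, 0, -2, -2, 1, 0, 1, 0, 0, 1, 0,
    1, 0, 0, 0, -1, 0, 0, 0, 0, -1, -1, 1]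

/-- degree 257857600 -/
def r76 : List ℤ := [257857600, 96320, -11648, 2112, -52052, -140, -500, -56, 448, -64, 0, 0, 56, 0, -70, -30, 0, 236,
    -56, 20, 20, 20, -16, -12, 4, 0, 0, 0, 0, 0, 0, 0, -8, 0, -5, 7, 1, 10, 2, 2, 0, 0, 2, 0, -44, -4, 0, -2, 4, 2, -4,
    0, 0, 0, 2, 2, 0, 0, 0, 0, -7, 3, -1, 0, 0, 0, 0, -1, -1, -1, -2, 0, 0, 0, 0, 0, 0, 0, 0, 0, 0, -2, 0, 0, 0, 0, 0,
    1, -1, -1, 0, 0, 0, 0, 1, 0, 0, 0, 1]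

/-- degree 259008750 -/
def r77 : List ℤ := [259008750, 19950, 9750, -1650, -160875, 720, -1305, 0, 2590, 62, -130, -90, -6, -30, 0, 0, 0, -555,
    -15, 30, -105, 0, 15, 6, 0, 0, 35, 0, -50, 6, 10, 2, 2, 2, -9, 0, 0, 0, 0, 0, 0, 0, 0, 0, -35, 5, 9, 7, 4, 3, 2, 0,
    -1, 2, -1, 0, 0, 0, -1, 0, 0, 0, 0, 0, 0, 0, 0, 3, 0, 0, 0, 0, 0, -1, -1, 0, 0, 0, 1, 1, -2, -1, 0, -1, 0, 1, 0, 0,
    0, 0, 0, 0, 0, 0, 1, 0, 0, -1, 0]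

/-- degree 267014475 -/
def r78 : List ℤ := [267014475, -65205, 8827, -693, -88452, 0, 0, 189, 1323, -213, 315, 27, 7, -5, -70, -30, 0, -324,
    -56, 0, 0, 0, 0, 0, -11, -3, 0, 0, -45, 3, 3, 3, -1, -9, 0, 0, 0, 10, 2, 2, 0, 0, 2, 2, 36, 12, 0, 0, 0, -2, 0, 0,
    0, 0, 0, 1, 1, 0, 0, 0, -7, 3, -1, 0, 0, -1, -1, 0, 0, 0, -2, 0, 0, 0, 0, 0, 0, 0, 0, 0, 0, 2, 0, 0, 0, 0, 0, 1, -1,
    -1, 0, 0, -1, 0, 0, 0, 0, 0, 1]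

/-- degree 280280000 -/
def r79 : List ℤ := [280280000, 11200, 0, 3520, 100100, -700, -520, 140, -2240, -192, 0, -128, -56, 0, 0, 0, 0, 580, 0,
    40, 40, 4, -32, -8, 0, 4, 0, 0, 0, 0, 0, 0, 8, 0, -7, 5, -1, 0, 0, 0, 0, 0, 0, 0, -20, -12, -8, -8, 4, -2, 0, 4, 0,
    0, 0, -2, 0, 0, 0, 0, 0, 0, 0, 0, 0, 0, 0, 1, 1, 1, 0, 0, 0, 0, 0, 0, 0, -1, 0, 0, 0, 2, 0, 0, 0, 0, 0, 0, 0, 0, 0,
    0, 0, 0, 1, 0, 0, 0, 0]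

/-- degree 292953024 -/
def r80 : List ℤ := [292953024, -60480, -7488, 1728, -189540, 1458, 0, 0, 4032, 192, 0, -64, 0, 0, -351, -26, 24, 540,
    -36, 0, 0, 18, 0, 0, 0, 0, 14, 0, 64, 0, 0, 0, 0, 0, 0, 0, 0, -15, 2, -3, 0, 0, -2, 1, 60, 12, -4, 0, -6, 0, 0, 2,
    0, 0, 0, 0, 0, 0, 2, 0, 0, -5, 0, -2, 0, 0, 0, 0, 0, 0, -3, 0, 0, -1, 2, 0, 1, 0, 4, 0, -2, 0, 0, 0, 0, 0, 0, 0, 0,
    -1, 0, 0, 1, -1, 0, 0, -1, -1, 0]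

/-- degree 299710125 -/
def r81 : List ℤ := [299710125, -28755, 6565, 1485, 347490, 0, 0, -216, -1539, -99, 45, 21, 13, -15, -175, 0, 0, 162,
    -50, 0, 0, 0, 0, 0, 4, 0, 15, 1, 21, -3, 1, -7, -3, -3, 0, 0, 0, -15, 0, 5, 0, 0, 0, 0, -54, 18, 6, 0, 0, 4, 0, 0,
    0, 0, 0, -2, 0, 0, -1, 1, 5, 0, -1, 0, 0, -1, -1, 0, 0, 0, 1, 0, 0, 3, 0, 1, 0, 0, 6, -2, 0, 0, 0, 0, 0, -1, 1, -3,
    -1, 0, 0, 0, 0, 0, 0, 0, 1, -1, 1]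

/-- degree 302176875 -/
def r82 : List ℤ := [302176875, 875, 2275, 4235, 150150, -105, 300, -105, -1925, -101, 75, -45, 7, -25, 0, 0, 0, -250,
    70, -115, 20, -25, -16, 5, -5, -1, 0, 0, -5, -13, -1, 7, 7, 3, 3, 3, 3, 0, 0, 0, 0, 0, 0, 0, 70, 22, 6, 10, -5, -2,
    1, 3, 0, -3, -2, 1, -1, 0, 0, 0, 0, 0, 0, 0, 0, 1, 1, -1, -1, -1, 0, 0, 0, 0, 0, 0, 0, 0, -2, 2, 1, -2, -1, 0, 0, 0,
    0, 0, 0, 0, 0, 0, 0, 0, 1, 0, 0, 0, 0]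

/-- degree 309429120 -/
def r83 : List ℤ := [309429120, -27776, -11648, 1408, 24024, 1344, -276, 84, -2688, -128, 0, 128, 0, 0, 350, -10, 20,
    -296, -56, -44, -44, -32, 16, 4, 4, 4, 0, 0, 0, 0, 0, 0, 0, 0, -6, 3, 3, 14, 2, 2, 4, 4, -2, 0, 24, -8, 8, -6, 0, 0,
    4, -4, 0, 0, -2, 0, 0, 0, 0, 0, -1, -1, -1, -1, -1, 0, 0, -2, 1, 1, 2, 0, 0, 0, 0, 0, 0, 0, 0, 0, 0, 0, 0, 0, 0, 0,
    0, -1, -1, -1, 1, 1, 0, 0, 0, 0, 0, 0, -1]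

/-- degree 326956500 -/
def r84 : List ℤ := [326956500, -15660, -2340, -396, 189540, 729, 0, 0, -1980, 228, -60, -20, 0, 24, 0, -25, 0, -540,
    36, 81, 0, 9, 0, 9, 0, 0, 10, 3, 20, -4, 0, 8, 0, 0, 0, 0, 0, 0, -5, 0, -5, 0, -1, 2, -60, -12, 4, 0, -3, 0, -3, 1,
    0, -3, 0, 0, 0, 0, -2, -1, 0, 5, 0, -1, 0, -2, 2, 0, 0, 0, 0, -1, 0, 1, 1, 0, 0, 0, -4, 0, -1, 0, -1, 0, 0, 0, 1, 0,
    0, 1, 0, 1, -1, 0, 0, 0, 0, 1, 0]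

/-- degree 360062976 -/
def r85 : List ℤ := [360062976, -57344, 0, 0, -139776, 336, 912, 0, 0, 0, 0, 0, 0, 0, 336, 16, 26, -512, 0, 64, -80, 16,
    -32, 0, 0, 0, 0, 0, 0, 0, 0, 0, 0, 0, -6, 0, -3, 16, 0, 0, -4, 6, 0, -2, 0, 0, 0, 0, 0, 0, 0, 0, 0, 0, 0, 0, 0, 0,
    0, 0, -6, 4, 0, 1, 2, 0, 0, -2, 1, -2, 0, 0, 0, 0, 0, 0, 0, 0, 0, 0, 0, 0, 0, 0, 0, 0, 0, -2, 0, 0, 0, -1, 1, 0, 0,
    0, 0, 0, 0]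

/-- degree 387317700 -/
def r86 : List ℤ := [387317700, 3780, -4356, 1188, -208494, -1458, 0, 0, 2772, 180, 180, -20, 0, 0, -90, -10, 0, 594,
    -90, 0, 0, -18, 0, 0, 0, 0, -14, 0, 20, 12, 8, 0, 0, 0, 0, 0, 0, -10, -6, -6, 0, 0, -2, 0, -6, 18, -2, 0, 6, 0, 0,
    -2, 0, 0, 0, 0, 0, 3, -2, 0, -9, -4, 0, 2, 0, -2, 2, 0, 0, 0, 2, 0, 0, 1, -2, 0, 0, 0, 2, 2, 2, 0, 0, 0, -1, 0, 0,
    -1, 0, 0, 0, 0, 0, 1, 0, 0, 0, 1, -1]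

/-- degree 402902500 -/
def r87 : List ℤ := [402902500, 60900, -9100, 3300, -25025, -770, 670, -35, -700, -316, 20, -44, 28, -20, 0, 0, 0, 255,
    35, 30, 30, -18, 6, 6, 5, -3, 0, 0, 20, -12, -4, 12, 4, 0, -5, -8, -2, 0, 0, 0, 0, 0, 0, 0, -25, -1, -5, 2, 2, 1, 2,
    -2, 2, 2, 2, 1, 1, 0, 0, 0, 0, 0, 0, 0, 0, 0, 0, 3, 0, 0, 0, 0, 0, 0, 0, 0, 0, 0, -1, -1, -4, 1, 0, 0, 0, 0, 0, 0,
    0, 0, 0, 0, 0, 0, -1, 0, 0, 0, 0]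

/-- degree 464257024 -/
def r88 : List ℤ := [464257024, 0, 4096, 0, -146432, -1280, -1280, -56, 0, 0, 0, 0, -64, 0, 224, 24, 24, 0, 64, 0, 0, 0,
    0, 0, 4, 0, -35, 0, 0, 0, 0, 0, 0, 0, 16, -2, -2, 0, -4, -4, 0, 0, 0, 0, 0, 0, 0, 0, 0, 8, 0, 0, 0, 0, 0, 2, 0, -3,
    1, 0, 8, 3, -1, 0, 0, 0, 0, 0, 0, 0, 0, 0, 0, 1, 1, 0, 0, 0, 0, 0, 0, 0, 0, 0, 1, -1, 0, 0, -1, -1, 0, 0, 0, 0, 0,
    0, 0, 1, 0]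

/-- degree 469945476 -/
def r89 : List ℤ := [469945476, -56700, 4004, -1980, -243243, 0, 0, -189, 3780, -252, 180, 36, -28, 20, -224, -24, -24,
    405, 161, 0, 0, 0, 0, 0, 11, 3, 0, 0, -60, -12, 4, 4, -4, 0, 0, 0, 0, 0, 4, 4, 0, 0, 0, 0, 45, -27, 9, 0, 0, -1, 0,
    0, 0, 0, 0, -1, -1, 0, 0, 0, -8, -3, 1, 0, 0, 0, 0, 0, 0, 0, 0, 0, 0, 0, 0, 0, 0, 0, -3, 1, 0, -1, 0, 0, 0, 0, 0, 0,
    1, 1, 0, 0, 0, 0, 0, 0, 0, 0, 0]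

/-- degree 469945476 -/
def r90 : List ℤ := [469945476, 40068, 9828, -8316, 0, 0, 729, 0, -252, 132, -60, 36, 0, -36, -189, -9, 26, 0, 0, 0, 81,
    0, -27, 0, 0, 0, 0, 0, -36, 12, -12, 4, 0, 4, 0, 0, 0, 3, 3, 3, 3, -2, -1, 0, 0, 0, 0, -9, 0, 0, 0, 0, -3, 0, 3, 0,
    0, 0, 0, 0, 0, 0, 0, 0, -1, 0, 0, 0, 0, 0, 3, -1, 0, 0, 0, 0, 0, 0, 0, 0, 0, 0, 0, 1, 0, 0, 0, 0, 0, 0, 1, 0, 0, 0,
    0, 0, -1, 0, 0]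

/-- degree 483483000 -/
def r91 : List ℤ := [483483000, -16520, -3640, 440, 60060, -105, 210, -84, -2856, 24, -40, -24, 0, 0, 175, 0, 0, 28,
    140, 55, 10, 7, 22, -1, -4, -4, 0, 0, -56, -8, 0, -16, 0, 0, -6, -3, 0, 15, 0, -5, 0, 0, 0, 0, -36, 12, 12, -12, 3,
    0, 3, 3, 2, -1, 0, 0, 0, 0, 0, 0, -5, 0, 1, 0, 0, 0, 0, -2, -2, 1, -1, 0, 0, 0, 0, 0, 0, 0, 4, 0, 1, 0, 1, 0, 0, 0,
    0, 3, 1, 0, 0, 0, 0, 0, 0, 0, -1, 0, -1]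

/-- degree 502078500 -/
def r92 : List ℤ := [502078500, 13860, -1260, -924, 187110, -1134, 405, 0, -2940, 68, -60, -140, 0, 36, 0, 25, 0, -90,
    -126, -36, 45, 18, 9, 12, 0, 0, 0, 0, -20, 12, -4, -4, 0, -4, 0, 0, 0, 0, 5, 0, 5, 0, 1, 0, 30, -10, 10, 3, -6, 0,
    -4, -2, -3, 0, -1, 0, 0, 1, 0, 0, 0, -5, 0, 1, 0, 0, 0, 0, 0, 0, 0, 1, 0, 0, 0, 0, 0, 0, -2, 2, -2, 0, 0, -1, 1, 0,
    0, 0, 0, -1, 0, -1, 0, 0, 0, 1, 0, 0, 0]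

/-- degree 503513010 -/
def r93 : List ℤ := [503513010, -19278, 3354, 594, -104247, 0, 0, 0, 1890, -126, -126, 42, 6, 6, -195, 15, -15, -567,
    -111, 0, 0, 0, 0, 0, 0, 0, 21, 0, 66, -6, -2, -10, -2, 6, 0, 0, 0, -3, -1, 9, -3, -3, -1, 0, 9, 9, -15, 0, 0, -3, 0,
    0, 0, 0, 0, 0, 0, 0, 1, 0, 3, 3, 0, 0, 0, 0, 0, 0, 0, 0, 5, 1, -1, -3, 0, 0, 0, 0, -3, 1, 0, 1, 0, 0, 0, -1, 0, 3,
    0, -1, 0, 0, 0, 1, 0, 0, 1, 1, -1]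

/-- degree 504627200 -/
def r94 : List ℤ := [504627200, 0, -4096, 0, -123904, -1792, -640, 56, 0, 0, 0, 0, 64, 0, 160, 40, 0, 0, -64, 0, 0, 0,
    0, 0, -4, 0, -21, 0, 0, 0, 0, 0, 0, 0, 8, 2, -4, 0, 4, 4, 0, 0, 0, 0, 0, 0, 0, 0, 0, -8, 0, 0, 0, 0, 0, -2, 0, -1,
    -1, 0, 16, 1, 1, -2, 0, 0, 0, 0, 0, 0, 0, 0, 0, 3, 0, 0, 0, 1, 0, 0, 0, 0, 0, 0, -1, 1, 0, 0, 1, 1, 0, 0, 0, -1, 0,
    -1, 0, -1, 0]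

/-- degree 522161640 -/
def r95 : List ℤ := [522161640, 1512, 2184, -792, -162162, 1701, 324, 0, 168, -88, -120, -56, 0, 24, 210, -5, -10, -306,
    42, -9, -36, -27, 0, -9, 0, 0, 0, 0, 40, 8, -8, -8, 0, 0, 0, 0, 0, 2, -1, -6, 7, 2, 3, 0, 6, 14, -14, 6, -3, 0, -1,
    1, 0, 3, 2, 0, 0, 0, 0, 0, 3, -2, 0, 1, -1, 0, 0, 0, 0, 0, -2, -1, 0, 0, 0, 0, 0, 0, -2, -2, 1, 0, -1, 0, 0, 0, 0,
    -1, 0, 2, -1, 1, 0, 0, 0, 0, 0, 0, 1]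

/-- degree 551675124 -/
def r96 : List ℤ := [551675124, -47628, -9828, -3564, 0, 0, 0, 0, -2268, 324, 36, 108, 0, -24, 189, 9, -51, 0, 0, 0, 0,
    0, 0, 0, 0, 0, 0, 0, 36, 12, 0, 8, 0, 0, 0, 0, 0, -3, -3, -3, -3, -3, 1, 0, 0, 0, 0, 0, 0, 0, 0, 0, 0, 0, 0, 0, 0,
    0, 0, 0, 0, 0, 0, 0, 0, 2, -2, 0, 0, 0, -3, 1, 1, 0, 0, 0, 0, -1, 0, 0, 0, 0, 0, 0, 0, 0, 0, 0, 0, 0, 0, 0, 0, 0, 0,
    0, 1, 0, 0]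

/-- degree 1347500 -/
def r97 : List ℤ := [1347500, 3500, 700, -660, -3850, -70, 470, -70, 140, 76, -20, -36, -28, 20, 0, 0, 0, -10, 70, -10,
    -10, 26, -10, 6, 10, -6, 0, 0, -20, -4, 4, -12, 4, -4, 2, 2, 2, 0, 0, 0, 0, 0, 0, 0, -10, 22, 6, 14, 2, -10, -2, -6,
    -2, -2, -2, 2, 2, -2, 0, 0, 0, 0, 0, 0, 0, 0, 0, 2, 2, 2, 0, 0, 0, 0, 0, 0, 0, -1, -2, -2, -2, -2, 2, 2, -2, 0, 0,
    0, 0, 0, 0, 0, 0, 0, 2, -2, 0, 0, 0]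

/-- degree 4929498 -/
def r98 : List ℤ := [4929498, -5670, -1974, -486, -10206, 0, 0, 0, 378, 186, 90, 42, 42, -30, -42, -12, 48, 162, 42, 0,
    0, 0, 0, 0, 0, 0, 0, 0, 42, -6, 2, -14, 10, -6, 0, 0, 0, -10, -4, 6, 0, 0, 4, 2, 18, -30, -6, 0, 0, 6, 0, 0, 0, 0,
    0, 0, 0, 2, 0, 0, -6, -6, 0, 0, 0, -2, -2, 0, 0, 0, -2, 0, 0, 0, 0, 0, -2, 0, -6, 2, 0, -2, 0, 0, 2, 0, 0, 2, 0, 2,
    0, 0, 2, 0, 0, -1, 2, 0, -2]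

/-- the rows of norm one -/
def RA : List (List ℤ) := [r0, r1, r2, r3, r4, r5, r6, r7, r8, r9, r10, r11, r12, r13, r14, r15, r16, r17, r18, r19,
    r20, r21, r22, r23, r24, r25, r26, r27, r28, r29, r30, r31, r32, r33, r34, r35, r36, r37, r38, r39, r40, r41, r42,
    r43, r44, r45, r46, r47, r48, r49, r50, r51, r52, r53, r54, r55, r56, r57, r58, r59, r60, r61, r62, r63, r64, r65,
    r66, r67, r68, r69, r70, r71, r72, r73, r74, r75, r76, r77, r78, r79, r80, r81, r82, r83, r84, r85, r86, r87, r88,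
    r89, r90, r91, r92, r93, r94, r95, r96]

/-- the rows of norm two -/
def RB : List (List ℤ) := [r97, r98]

/-- the primes and the sections -/
def PL : List (ℕ × ℕ × List ℕ) := [(2, 21, [0, 4, 5, 6, 7, 14, 15, 16, 26, 27, 34, 35, 36, 43, 57, 60, 61, 62, 63, 64,
    73]), (3, 9, [0, 1, 2, 3, 8, 9, 10, 11, 12, 13, 14, 15, 16, 26, 27, 28, 29, 30, 32, 33, 37, 38, 39, 40, 41, 43, 57,
    58, 70]), (5, 4, [0, 1, 2, 3, 4, 5, 6, 7, 8, 10, 13, 17, 18, 19, 20, 24, 26, 28, 44]), (7, 2, [0, 1, 2, 4, 5, 7, 8,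
    12, 14, 18]), (11, 1, [0, 3, 4]), (13, 1, [0, 2, 4]), (23, 1, [0])]

/-- certificates for the prime 3 -/
def C3 : List Cert := [
  ⟨0, [.one, .gen 0 1 0, .mul 0 0, .mul 1 0, .mul 2 0, .gen 2 1 0, .mul 4 0, .lin [(5535, 5), (6363, 4), (18813, 3),
    (19012, 2), (11286, 0)], .lin [(17967, 6), (12816, 5), (2464, 4), (19041, 1)], .lin [(4703, 7), (1498, 2)], .lin
    [(13128, 8), (17495, 7)], .lin [(18284, 10), (9840, 9), (8014, 5)], .lin [(9842, 10)], .lin [(1, 12)]], [(4, 1),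
    (5, 3), (6, 9), (7, 9), (1, 27), (2, 81), (0, 729)]⟩,
  ⟨1, [.one, .gen 1 1 0, .mul 0 0, .mul 1 0, .mul 2 0, .gen 2 1 0, .mul 4 0, .mul 5 0, .mul 2 2, .gen 0 1 1, .mul 8 0,
    .lin [(3256, 10), (10373, 9), (11301, 8), (8531, 7), (5905, 6), (18060, 5), (4350, 4), (1683, 3), (18948, 2)],
    .lin [(4525, 11), (11967, 10), (17238, 9), (5636, 8), (18532, 6), (5183, 5), (7512, 4), (15572, 3)], .lin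
    [(14271, 12), (15191, 11), (16762, 10), (13128, 7), (3126, 6), (9103, 3), (3722, 2)], .lin [(9089, 13), (15416,
    12), (3188, 11), (2121, 8), (13557, 7), (11673, 4)], .lin [(9429, 14), (5127, 13), (12622, 9), (19466, 8),
    (5127, 5)], .lin [(4124, 15), (11060, 14), (5530, 10), (4499, 6)], .lin [(19682, 16), (1, 15)], .lin [(3, 17),
    (3280, 12)], .lin [(1, 18)]], [(6, 1), (7, 3), (8, 3), (4, 3), (0, 9), (1, 9), (2, 27), (3, 81), (5, 243)]⟩,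
  ⟨2, [.one, .gen 0 1 0, .mul 0 0, .lin [(19680, 1), (4921, 0)], .lin [(4921, 2)], .lin [(1, 4)]], [(2, 1), (0, 3),
    (1, 27)]⟩,
  ⟨3, [.one, .gen 0 1 0, .mul 0 0, .lin [(10923, 1), (18953, 0)], .lin [(8201, 2)], .lin [(1, 4)]], [(2, 1), (0, 3),
    (1, 27)]⟩,
  ⟨8, [.one, .gen 0 1 0, .mul 0 0, .mul 1 0, .gen 0 1 1, .lin [(18000, 3), (9027, 2), (2827, 1), (1647, 0)], .lin
    [(19269, 4), (19445, 3), (7689, 1)], .lin [(18491, 5), (14315, 2)], .lin [(9842, 6)], .lin [(1, 8)]], [(4, 1),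
    (1, 3), (3, 3), (0, 9), (2, 81)]⟩,
  ⟨9, [.one, .gen 0 1 0, .mul 0 0, .gen 2 1 0, .lin [(7927, 3), (6493, 2), (5263, 1), (7458, 0)], .lin [(7335, 4),
    (12351, 3), (14714, 1)], .lin [(6563, 5), (3280, 4)], .lin [(1, 6)]], [(0, 1), (1, 3), (2, 3), (3, 9)]⟩,
  ⟨10, [.one, .gen 0 1 0, .mul 0 0, .lin [(4382, 2), (17498, 1), (17495, 0)], .lin [(6563, 3), (3280, 2)], .lin [(1,
    4)]], [(0, 1), (1, 3), (2, 9)]⟩,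
  ⟨11, [.one, .gen 0 1 0, .mul 0 0, .lin [(10943, 2), (8746, 1), (17495, 0)], .lin [(2, 3), (9842, 2)], .lin [(1,
    4)]], [(0, 1), (1, 3), (2, 9)]⟩,
  ⟨12, [.one, .gen 0 2 0, .mul 0 0, .lin [(19680, 1), (4921, 0)], .lin [(4921, 2)], .lin [(1, 4)]], [(2, 1), (0, 3),
    (1, 27)]⟩,
  ⟨13, [.one, .gen 3 1 0, .lin [(3, 1), (5212, 0)], .lin [(1, 2)]], [(0, 1), (1, 3)]⟩,
  ⟨14, [.one, .gen 0 1 0, .mul 0 0, .lin [(18600, 1), (4738, 0)], .lin [(2812, 2)], .lin [(1, 4)]], [(2, 1), (0, 3),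
    (1, 27)]⟩,
  ⟨15, [.one, .gen 0 1 0, .mul 0 0, .lin [(9, 2), (3276, 1), (9842, 0)], .lin [(6, 3), (13121, 2)], .lin [(1, 4)]],
    [(0, 1), (1, 3), (2, 9)]⟩,
  ⟨16, [.one, .gen 1 1 0, .lin [(19682, 1), (1, 0)], .lin [(1, 2)]], [(0, 1), (1, 3)]⟩,
  ⟨26, [.one, .gen 1 1 0, .mul 0 0, .lin [(1325, 2), (6557, 1), (11810, 0)], .lin [(6565, 3), (8201, 2)], .lin [(1,
    4)]], [(0, 1), (1, 3), (2, 9)]⟩,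
  ⟨27, [.one, .gen 0 1 0, .lin [(3, 1), (13121, 0)], .lin [(1, 2)]], [(0, 1), (1, 3)]⟩,
  ⟨28, [.one, .gen 0 1 0, .mul 0 0, .lin [(4382, 2), (17498, 1), (17495, 0)], .lin [(6563, 3), (3280, 2)], .lin [(1,
    4)]], [(0, 1), (1, 3), (2, 9)]⟩,
  ⟨29, [.one, .gen 0 1 0, .lin [(4, 1), (1, 0)], .lin [(1, 2)]], [(0, 1), (1, 3)]⟩,
  ⟨30, [.one, .gen 0 1 0, .lin [(13126, 1), (3280, 0)], .lin [(1, 2)]], [(0, 1), (1, 3)]⟩,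
  ⟨32, [.one, .gen 0 2 0, .lin [(2, 1), (9842, 0)], .lin [(1, 2)]], [(0, 1), (1, 3)]⟩,
  ⟨33, [.one, .gen 1 1 0, .lin [(6565, 1), (13121, 0)], .lin [(1, 2)]], [(0, 1), (1, 3)]⟩,
  ⟨37, [.one, .gen 0 1 0, .lin [(3283, 1), (3280, 0)], .lin [(1, 2)]], [(0, 1), (1, 3)]⟩,
  ⟨38, [.one, .gen 0 1 0, .lin [(13124, 1), (13121, 0)], .lin [(1, 2)]], [(0, 1), (1, 3)]⟩,
  ⟨39, [.one, .gen 0 1 0, .lin [(3, 1), (1, 0)], .lin [(1, 2)]], [(0, 1), (1, 3)]⟩,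
  ⟨40, [.one, .gen 1 1 0, .lin [(6565, 1), (13121, 0)], .lin [(1, 2)]], [(0, 1), (1, 3)]⟩,
  ⟨41, [.one, .gen 0 1 0, .lin [(3283, 1), (3280, 0)], .lin [(1, 2)]], [(0, 1), (1, 3)]⟩,
  ⟨43, [.one, .gen 1 1 0, .lin [(6565, 1), (13121, 0)], .lin [(1, 2)]], [(0, 1), (1, 3)]⟩,
  ⟨57, [.one, .gen 0 1 0, .lin [(3, 1), (13121, 0)], .lin [(1, 2)]], [(0, 1), (1, 3)]⟩,
  ⟨58, [.one, .gen 0 1 0, .lin [(2, 1), (1, 0)], .lin [(1, 2)]], [(0, 1), (1, 3)]⟩,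
  ⟨70, [.one, .gen 1 1 0, .lin [(6565, 1), (13121, 0)], .lin [(1, 2)]], [(0, 1), (1, 3)]⟩]

/-- certificates for the prime 5 -/
def C5 : List Cert := [
  ⟨0, [.one, .gen 0 1 0, .mul 0 0, .lin [(94, 2), (87, 1), (469, 0)], .lin [(507, 3), (333, 2)], .lin [(1, 4)]], [(1,
    1), (2, 5), (0, 25)]⟩,
  ⟨1, [.one, .gen 0 1 0, .mul 0 0, .gen 1 1 0, .lin [(105, 3), (505, 2), (599, 1), (130, 0)], .lin [(4, 4), (124, 3),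
    (469, 1)], .lin [(215, 5), (333, 4)], .lin [(1, 6)]], [(0, 1), (1, 5), (2, 5), (3, 25)]⟩,
  ⟨2, [.one, .gen 0 1 0, .mul 0 0, .lin [(133, 2), (37, 1), (417, 0)], .lin [(381, 3), (437, 2)], .lin [(1, 4)]], [(0,
    1), (1, 5), (2, 25)]⟩,
  ⟨3, [.one, .gen 0 1 0, .lin [(6, 1), (313, 0)], .lin [(1, 2)]], [(0, 1), (1, 5)]⟩,
  ⟨4, [.one, .gen 1 1 0, .mul 0 0, .lin [(557, 2), (74, 1), (417, 0)], .lin [(547, 3), (287, 2)], .lin [(1, 4)]], [(0,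
    1), (1, 5), (2, 25)]⟩,
  ⟨5, [.one, .gen 0 1 0, .lin [(5, 1), (333, 0)], .lin [(1, 2)]], [(0, 1), (1, 5)]⟩,
  ⟨6, [.one, .gen 0 1 0, .lin [(131, 1), (499, 0)], .lin [(1, 2)]], [(0, 1), (1, 5)]⟩,
  ⟨7, [.one, .gen 2 1 0, .lin [(416, 1), (366, 0)], .lin [(1, 2)]], [(0, 1), (1, 5)]⟩,
  ⟨8, [.one, .gen 0 1 0, .lin [(148, 1), (482, 0)], .lin [(1, 2)]], [(0, 1), (1, 5)]⟩,
  ⟨10, [.one, .gen 0 1 0, .lin [(504, 1), (499, 0)], .lin [(1, 2)]], [(0, 1), (1, 5)]⟩,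
  ⟨13, [.one, .gen 3 1 0, .lin [(589, 1), (41, 0)], .lin [(1, 2)]], [(0, 1), (1, 5)]⟩,
  ⟨17, [.one, .gen 0 1 0, .lin [(338, 1), (333, 0)], .lin [(1, 2)]], [(0, 1), (1, 5)]⟩,
  ⟨18, [.one, .gen 0 1 0, .lin [(6, 1), (1, 0)], .lin [(1, 2)]], [(0, 1), (1, 5)]⟩,
  ⟨19, [.one, .gen 0 1 0, .lin [(5, 1), (499, 0)], .lin [(1, 2)]], [(0, 1), (1, 5)]⟩,
  ⟨20, [.one, .gen 0 1 0, .lin [(338, 1), (333, 0)], .lin [(1, 2)]], [(0, 1), (1, 5)]⟩,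
  ⟨24, [.one, .gen 2 1 0, .lin [(5, 1), (31, 0)], .lin [(1, 2)]], [(0, 1), (1, 5)]⟩,
  ⟨26, [.one, .gen 0 1 0, .lin [(5, 1), (437, 0)], .lin [(1, 2)]], [(0, 1), (1, 5)]⟩,
  ⟨28, [.one, .gen 0 1 0, .lin [(504, 1), (499, 0)], .lin [(1, 2)]], [(0, 1), (1, 5)]⟩,
  ⟨44, [.one, .gen 0 1 0, .lin [(131, 1), (499, 0)], .lin [(1, 2)]], [(0, 1), (1, 5)]⟩]

/-- certificates for the prime 7 -/
def C7 : List Cert := [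
  ⟨0, [.one, .gen 0 1 0, .lin [(29, 1), (37, 0)], .lin [(1, 2)]], [(0, 1), (1, 7)]⟩,
  ⟨1, [.one, .gen 0 1 0, .lin [(44, 1), (37, 0)], .lin [(1, 2)]], [(0, 1), (1, 7)]⟩,
  ⟨2, [.one, .gen 0 1 0, .lin [(27, 1), (10, 0)], .lin [(1, 2)]], [(0, 1), (1, 7)]⟩,
  ⟨4, [.one, .gen 0 1 0, .lin [(23, 1), (33, 0)], .lin [(1, 2)]], [(0, 1), (1, 7)]⟩,
  ⟨5, [.one, .gen 0 1 0, .lin [(46, 1), (10, 0)], .lin [(1, 2)]], [(0, 1), (1, 7)]⟩,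
  ⟨7, [.one, .gen 4 1 0, .lin [(31, 1), (25, 0)], .lin [(1, 2)]], [(0, 1), (1, 7)]⟩,
  ⟨8, [.one, .gen 0 1 0, .lin [(31, 1), (25, 0)], .lin [(1, 2)]], [(0, 1), (1, 7)]⟩,
  ⟨12, [.one, .gen 3 1 0, .lin [(6, 1), (1, 0)], .lin [(1, 2)]], [(0, 1), (1, 7)]⟩,
  ⟨14, [.one, .gen 0 1 0, .lin [(7, 1), (37, 0)], .lin [(1, 2)]], [(0, 1), (1, 7)]⟩,
  ⟨18, [.one, .gen 0 1 0, .lin [(6, 1), (1, 0)], .lin [(1, 2)]], [(0, 1), (1, 7)]⟩]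

/-- certificates for the prime 11 -/
def C11 : List Cert := [
  ⟨0, [.one, .lin [(1, 0)]], [(0, 1)]⟩,
  ⟨3, [.one, .lin [(1, 0)]], [(0, 1)]⟩,
  ⟨4, [.one, .lin [(1, 0)]], [(0, 1)]⟩]

/-- certificates for the prime 13 -/
def C13 : List Cert := [
  ⟨0, [.one, .lin [(1, 0)]], [(0, 1)]⟩,
  ⟨2, [.one, .lin [(1, 0)]], [(0, 1)]⟩,
  ⟨4, [.one, .lin [(1, 0)]], [(0, 1)]⟩]

/-- certificates for the prime 23 -/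
def C23 : List Cert := [
  ⟨0, [.one, .lin [(1, 0)]], [(0, 1)]⟩]

/-- certificates for the prime 2, first pass -/
def C2a : List Cert := [
  ⟨0, [.one, .gen 0 1 0, .mul 0 0, .mul 1 0, .mul 2 0, .mul 3 0, .gen 1 1 0, .mul 5 0, .mul 6 0, .mul 7 0, .mul 3 3,
    .mul 4 3, .gen 2 1 0, .mul 11 0, .gen 3 1 0, .mul 13 0, .mul 1 1, .gen 5 1 0, .gen 0 1 1, .mul 4 0, .gen 0 1 2,
    .lin [(1835008, 19), (573440, 18), (1482752, 17), (783360, 16), (1157632, 15), (661440, 14), (1315032, 13),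
    (1711850, 12), (584509, 11), (883216, 10), (384280, 9)], .lin [(725942, 20), (1648016, 19), (317968, 18),
    (569212, 17), (1244864, 15), (1056180, 14), (1825730, 13), (1785936, 11), (2036178, 10), (327680, 9), (96783,
    8), (1685558, 6), (2069204, 4)], .lin [(2033952, 21), (643328, 20), (302064, 19), (857368, 18), (1173440, 16),
    (1193656, 15), (1740386, 14), (1803792, 12), (631241, 11), (1048576, 10), (1930064, 9), (709088, 7)], .lin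
    [(1073716, 22), (308896, 21), (1033014, 20), (782991, 19), (130192, 17), (491900, 16), (1703636, 15), (2064604,
    13), (393216, 11), (221522, 10), (627372, 8)], .lin [(506005, 23), (781412, 22), (1697662, 21), (1444492, 20),
    (933336, 18), (556308, 17), (374316, 16), (553098, 14), (1245184, 12), (1221159, 11), (1627803, 9)], .lin
    [(1989442, 25), (1184643, 24), (1966206, 23), (1067789, 22), (720, 19), (323774, 18), (618672, 15), (292302,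
    13), (1393152, 11), (332462, 9), (91237, 8), (805672, 7)], .lin [(904893, 26), (62648, 25), (1754742, 24),
    (1020769, 23), (702444, 20), (1715312, 19), (1805615, 16), (877739, 14), (507136, 12), (315227, 10), (821188,
    8)], .lin [(1835012, 21), (2031615, 17), (131074, 15)], .lin [(699051, 16)], .lin [(803735, 29), (213088, 28),
    (1887004, 27), (1990228, 23), (1599495, 22), (1192757, 15), (1751955, 11), (2077487, 10)], .lin [(1398102, 29),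
    (1747627, 28), (1135957, 23)], .lin [(1966079, 31), (1223336, 30), (87382, 29), (1398102, 25), (174762, 13),
    (1616555, 11)], .lin [(2097150, 31), (1572863, 30), (2, 26)], .lin [(1572870, 33), (1572866, 32), (1835005, 27),
    (1835007, 15)], .lin [(2, 34), (1048577, 33), (1048575, 28)], .lin [(1048578, 35), (1572863, 34)], .lin [(1,
    36)]], [(16, 1), (17, 4), (8, 2), (14, 8), (15, 8), (9, 8), (10, 8), (11, 32), (12, 32), (13, 64), (6, 32), (2,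
    64), (7, 256), (4, 512), (5, 4096), (3, 1024), (0, 8192)]⟩,
  ⟨4, [.one, .gen 0 1 0, .mul 0 0, .mul 1 0, .gen 1 1 0, .mul 3 0, .mul 1 1, .mul 2 1, .gen 0 1 1, .mul 7 0, .lin
    [(1924640, 5), (1156720, 4), (915974, 3), (1633693, 2)], .lin [(949610, 6), (672737, 5), (474805, 4)], .lin
    [(262144, 10), (1835016, 9), (1048582, 8), (2031634, 7), (557031, 6), (1310712, 2)], .lin [(131072, 11),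
    (1929380, 10), (1545339, 9), (1719664, 8), (692060, 3)], .lin [(1572867, 12), (1135959, 11), (1747624, 9),
    (699051, 4)], .lin [(1398102, 13), (699051, 12), (699050, 10)], .lin [(1, 11)], .lin [(1048575, 15)], .lin [(3,
    17), (1, 9)], .lin [(1, 18)]], [(6, 1), (9, 4), (7, 2), (8, 4), (2, 8), (5, 16), (3, 32), (4, 64), (0, 128), (1,
    8192)]⟩,
  ⟨5, [.one, .gen 0 1 0, .mul 0 0, .mul 1 0, .mul 2 0, .gen 1 1 0, .mul 4 0, .mul 5 0, .mul 2 2, .gen 0 1 1, .mul 8 0,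
    .lin [(540660, 10), (1867774, 9), (1332578, 8), (229378, 7), (223914, 6), (1916955, 5), (262112, 4), (2015237,
    3)], .lin [(1945691, 11), (1522377, 10), (151461, 9), (574775, 8), (1935982, 6), (221366, 5), (1557815, 3)],
    .lin [(1900541, 12), (808279, 11), (196611, 10), (1288873, 9), (1966078, 7), (131074, 6)], .lin [(838861, 13),
    (1258291, 11), (1258291, 8), (838861, 7)], .lin [(7, 14), (1048578, 13), (1048571, 12), (2097150, 9), (1048574,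
    5), (1048574, 4)], .lin [(314573, 15), (1363149, 14), (1258291, 10), (1782579, 6), (734003, 5)], .lin [(1, 11)],
    .lin [(1048577, 17), (1048575, 8)], .lin [(1048577, 18), (1048575, 17)], .lin [(1, 19)]], [(8, 1), (9, 2), (6,
    2), (7, 4), (4, 4), (5, 8), (1, 8), (3, 64), (0, 16), (2, 256)]⟩,
  ⟨6, [.one, .gen 0 1 0, .mul 0 0, .mul 1 0, .mul 2 0, .gen 1 1 0, .gen 0 1 1, .lin [(2073776, 6), (1087536, 5),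
    (1304876, 4), (645620, 3), (656821, 2), (23376, 1)], .lin [(1660246, 7), (1689372, 6), (262144, 5), (1543737,
    4), (436906, 2)], .lin [(786435, 8), (524290, 7), (262145, 6), (1310717, 3)], .lin [(1398102, 8), (699051, 7)],
    .lin [(1048575, 9)], .lin [(1, 11), (1, 5)], .lin [(1, 12)]], [(6, 1), (3, 2), (4, 2), (5, 8), (2, 8), (0, 16),
    (1, 128)]⟩,
  ⟨7, [.one, .gen 2 1 0, .mul 0 0, .gen 4 1 0, .gen 2 1 1, .lin [(1443804, 4), (1717804, 3), (2055947, 2), (653348,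
    1)], .lin [(708987, 5), (431354, 4), (1388165, 2)], .lin [(838861, 5)], .lin [(1048586, 7), (1572863, 3)], .lin
    [(1, 8)]], [(3, 1), (4, 4), (1, 4), (0, 8), (2, 64)]⟩,
  ⟨14, [.one, .gen 0 1 0, .mul 0 0, .mul 1 0, .gen 1 1 0, .lin [(34885, 4), (2050271, 3), (1052187, 2), (1133953, 1),
    (2077904, 0)], .lin [(772635, 5), (1030180, 4), (257545, 3), (1582062, 1)], .lin [(1, 2)], .lin [(1048575, 7),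
    (1048575, 6)], .lin [(1, 8)]], [(4, 1), (2, 2), (3, 4), (0, 8), (1, 128)]⟩,
  ⟨15, [.one, .gen 0 1 0, .gen 1 1 0, .mul 1 0, .gen 2 1 0, .lin [(2053435, 1), (1048584, 0)], .lin [(1513135, 1)],
    .lin [(1, 5)], .lin [(4, 7), (1572863, 5)], .lin [(1, 8)]], [(2, 1), (4, 4), (1, 2), (0, 4), (3, 32)]⟩,
  ⟨16, [.one, .gen 0 1 0, .mul 0 0, .lin [(1398101, 2), (699051, 0)], .lin [(1, 3), (1, 2)], .lin [(1, 4)]], [(2, 1),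
    (0, 2), (1, 8)]⟩,
  ⟨26, [.one, .gen 0 1 0, .mul 0 0, .lin [(1398098, 1), (699051, 0)], .lin [(838861, 2)], .lin [(1, 4)]], [(2, 1), (0,
    2), (1, 8)]⟩,
  ⟨27, [.one, .gen 0 1 0, .mul 0 0, .lin [(3, 2), (2097148, 1), (1, 0)], .lin [(2097151, 3), (1, 2)], .lin [(1, 4)]],
    [(2, 1), (0, 2), (1, 8)]⟩,
  ⟨34, [.one, .gen 0 1 0, .mul 0 0, .lin [(1572870, 1), (1835007, 0)], .lin [(699051, 2)], .lin [(1, 4)]], [(2, 1),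
    (0, 2), (1, 8)]⟩,
  ⟨35, [.one, .gen 0 1 0, .lin [(1, 0)], .lin [(1, 2)]], [(0, 1), (1, 2)]⟩,
  ⟨36, [.one, .gen 2 1 0, .lin [(2, 1), (209715, 0)], .lin [(1, 2)]], [(0, 1), (1, 2)]⟩,
  ⟨43, [.one, .lin [(1, 0)]], [(0, 1)]⟩,
  ⟨57, [.one, .gen 0 1 0, .lin [(1572867, 1), (1572863, 0)], .lin [(1, 2)]], [(0, 1), (1, 4)]⟩,
  ⟨60, [.one, .gen 0 1 0, .mul 0 0, .lin [(3, 2), (2097148, 1), (1, 0)], .lin [(2097151, 3), (1, 2)], .lin [(1, 4)]],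
    [(2, 1), (0, 2), (1, 8)]⟩,
  ⟨61, [.one, .gen 0 1 0, .lin [(1572867, 1), (1572863, 0)], .lin [(1, 2)]], [(0, 1), (1, 4)]⟩,
  ⟨62, [.one, .gen 2 1 0, .lin [(4, 1), (1572863, 0)], .lin [(1, 2)]], [(0, 1), (1, 4)]⟩,
  ⟨63, [.one, .gen 0 3 0, .lin [(2, 1), (349525, 0)], .lin [(1, 2)]], [(0, 1), (1, 2)]⟩,
  ⟨64, [.one, .gen 0 1 0, .lin [(1048577, 1), (1048575, 0)], .lin [(1, 2)]], [(0, 1), (1, 2)]⟩,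
  ⟨73, [.one, .gen 1 1 0, .lin [(4, 1), (1572863, 0)], .lin [(1, 2)]], [(0, 1), (1, 4)]⟩]

/-- certificates for the prime 2, second pass -/
def C2b : List Cert := [
  ⟨0, [.one, .gen 0 1 0, .mul 0 0, .mul 1 0, .mul 2 0, .mul 3 0, .gen 1 1 0, .mul 5 0, .mul 6 0, .mul 7 0, .mul 3 3,
    .mul 4 3, .gen 2 1 0, .mul 11 0, .gen 3 1 0, .mul 13 0, .mul 1 1, .gen 6 1 0, .mul 16 0, .gen 0 1 1, .lin
    [(1835008, 18), (573440, 17), (1482752, 16), (783360, 15), (1157632, 14), (661440, 13), (1315032, 12), (1711850,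
    11), (584509, 10), (883216, 9), (384280, 8)], .lin [(1251017, 20), (977512, 19), (624480, 18), (407028, 17),
    (2086986, 16), (425424, 14), (1169864, 13), (1849844, 12), (352060, 10), (851592, 9), (1449136, 8), (843683, 7),
    (226902, 6), (2077544, 5), (871537, 4), (487312, 3)], .lin [(2033952, 20), (643328, 19), (302064, 18), (857368,
    17), (1173440, 15), (1193656, 14), (1740386, 13), (1803792, 11), (631241, 10), (1048576, 9), (1930064, 8),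
    (709088, 6)], .lin [(1073716, 21), (308896, 20), (1033014, 19), (782991, 18), (130192, 16), (491900, 15),
    (1703636, 14), (2064604, 12), (393216, 10), (221522, 9), (627372, 7)], .lin [(506005, 22), (781412, 21),
    (1697662, 20), (1444492, 19), (933336, 17), (556308, 16), (374316, 15), (553098, 13), (1245184, 11), (1221159,
    10), (1627803, 8)], .lin [(1147556, 24), (1196459, 23), (1635929, 22), (528089, 21), (2067956, 18), (1789363,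
    17), (499495, 14), (1442878, 12), (1393388, 10), (1840416, 7), (1786083, 6), (1729512, 5)], .lin [(617466, 25),
    (587272, 24), (2073014, 23), (726433, 22), (1505900, 19), (478088, 18), (109919, 15), (447851, 13), (1843054,
    11), (221136, 8), (103300, 6)], .lin [(1835012, 20), (2031615, 16), (131074, 14)], .lin [(699051, 15)], .lin
    [(2083549, 28), (1627272, 27), (924924, 26), (2042740, 22), (1148739, 21), (1635927, 14), (1726184, 11),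
    (200322, 9)], .lin [(1398102, 28), (1747627, 27), (1135957, 22)], .lin [(1169563, 30), (564618, 29), (117630,
    28), (1532534, 24), (880535, 16), (705770, 13)], .lin [(1, 31), (1, 30), (524288, 25), (2097151, 14), (1, 12)],
    .lin [(1835015, 32), (1835011, 31), (262141, 26), (1835007, 15)], .lin [(2, 33), (1048577, 32), (1048575, 27)],
    .lin [(1048578, 34), (1572863, 33)], .lin [(1, 35)]], [(16, 1), (17, 4), (8, 2), (14, 8), (15, 4), (9, 8), (10,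
    8), (11, 32), (12, 32), (13, 64), (6, 32), (2, 64), (7, 256), (4, 512), (5, 4096), (3, 1024), (0, 8192)]⟩,
  ⟨4, [.one, .gen 0 1 0, .mul 0 0, .mul 1 0, .mul 2 0, .mul 3 0, .gen 1 1 0, .mul 5 0, .mul 1 1, .mul 2 1, .gen 6 1 0,
    .mul 9 0, .lin [(1441312, 5), (382576, 4), (862214, 3), (1390237, 2)], .lin [(720234, 6), (1016801, 5), (360117,
    4)], .lin [(1835052, 11), (131059, 9), (1507326, 8), (1048608, 7), (1047626, 6), (524763, 5), (1835016, 2)],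
    .lin [(730260, 13), (1160924, 12), (1502647, 11), (1647760, 8), (411940, 3)], .lin [(1, 13), (524289, 4)], .lin
    [(1398102, 15), (699050, 10), (1922389, 5)], .lin [(1, 11)], .lin [(1048575, 17)], .lin [(1048578, 19),
    (1572865, 9)], .lin [(1, 20)]], [(6, 1), (9, 4), (7, 2), (8, 4), (2, 8), (5, 16), (3, 32), (4, 64), (0, 128),
    (1, 8192)]⟩,
  ⟨5, [.one, .gen 0 1 0, .mul 0 0, .mul 1 0, .mul 2 0, .gen 1 1 0, .mul 4 0, .mul 5 0, .mul 2 2, .gen 6 1 0, .gen 0 1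
    1, .lin [(540660, 10), (1867774, 9), (1332578, 8), (229378, 7), (223914, 6), (1916955, 5), (262112, 4),
    (2015237, 3)], .lin [(1945691, 11), (1522377, 10), (151461, 9), (574775, 8), (1935982, 6), (221366, 5),
    (1557815, 3)], .lin [(1900541, 12), (808279, 11), (196611, 10), (1288873, 9), (1966078, 7), (131074, 6)], .lin
    [(838861, 13), (1258291, 11), (1258291, 8), (838861, 7)], .lin [(1, 14), (2, 13), (1, 12), (1048574, 9),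
    (2097150, 5)], .lin [(2097151, 15), (2097151, 14), (1572865, 10), (1, 6)], .lin [(1, 11)], .lin [(1048577, 17),
    (1048575, 7)], .lin [(1048577, 18), (1048575, 17)], .lin [(1, 19)]], [(8, 1), (9, 2), (6, 2), (7, 4), (4, 4),
    (5, 8), (1, 8), (3, 64), (0, 16), (2, 256)]⟩,
  ⟨6, [.one, .gen 0 1 0, .mul 0 0, .mul 1 0, .mul 2 0, .gen 1 1 0, .gen 6 1 0, .lin [(2073776, 6), (1087536, 5),
    (1304876, 4), (645620, 3), (656821, 2), (23376, 1)], .lin [(1660246, 7), (1689372, 6), (262144, 5), (1543737,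
    4), (436906, 2)], .lin [(786435, 8), (524290, 7), (262145, 6), (1310717, 3)], .lin [(1398102, 8), (699051, 7)],
    .lin [(1048575, 9)], .lin [(1, 11), (1, 5)], .lin [(1, 12)]], [(6, 1), (3, 2), (4, 2), (5, 8), (2, 8), (0, 16),
    (1, 128)]⟩,
  ⟨7, [.one, .gen 2 1 0, .mul 0 0, .gen 4 1 0, .gen 6 1 0, .lin [(1443804, 4), (1717804, 3), (2055947, 2), (653348,
    1)], .lin [(708987, 5), (431354, 4), (1388165, 2)], .lin [(838861, 5)], .lin [(1048577, 7), (1048575, 3)], .lin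
    [(1, 8)]], [(3, 1), (4, 2), (1, 4), (0, 8), (2, 64)]⟩,
  ⟨14, [.one, .gen 0 1 0, .mul 0 0, .mul 1 0, .gen 1 1 0, .lin [(34885, 4), (2050271, 3), (1052187, 2), (1133953, 1),
    (2077904, 0)], .lin [(772635, 5), (1030180, 4), (257545, 3), (1582062, 1)], .lin [(1, 2)], .lin [(1048575, 7),
    (1048575, 6)], .lin [(1, 8)]], [(4, 1), (2, 2), (3, 4), (0, 8), (1, 128)]⟩,
  ⟨15, [.one, .gen 0 1 0, .gen 1 1 0, .mul 1 0, .gen 2 1 0, .lin [(2053435, 1), (1048584, 0)], .lin [(1513135, 1)],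
    .lin [(1, 5)], .lin [(4, 7), (1572863, 5)], .lin [(1, 8)]], [(2, 1), (4, 4), (1, 2), (0, 4), (3, 32)]⟩,
  ⟨16, [.one, .gen 0 1 0, .mul 0 0, .lin [(1398101, 2), (699051, 0)], .lin [(1, 3), (1, 2)], .lin [(1, 4)]], [(2, 1),
    (0, 2), (1, 8)]⟩,
  ⟨26, [.one, .gen 0 1 0, .mul 0 0, .lin [(1398098, 1), (699051, 0)], .lin [(838861, 2)], .lin [(1, 4)]], [(2, 1), (0,
    2), (1, 8)]⟩,
  ⟨27, [.one, .gen 0 1 0, .mul 0 0, .lin [(3, 2), (2097148, 1), (1, 0)], .lin [(2097151, 3), (1, 2)], .lin [(1, 4)]],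
    [(2, 1), (0, 2), (1, 8)]⟩,
  ⟨34, [.one, .gen 0 1 0, .mul 0 0, .lin [(1572870, 1), (1835007, 0)], .lin [(699051, 2)], .lin [(1, 4)]], [(2, 1),
    (0, 2), (1, 8)]⟩,
  ⟨35, [.one, .gen 0 1 0, .lin [(1, 0)], .lin [(1, 2)]], [(0, 1), (1, 2)]⟩,
  ⟨36, [.one, .gen 2 1 0, .lin [(2, 1), (209715, 0)], .lin [(1, 2)]], [(0, 1), (1, 2)]⟩,
  ⟨43, [.one, .gen 0 1 0, .lin [(1048577, 1), (1048575, 0)], .lin [(1, 2)]], [(0, 1), (1, 2)]⟩,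
  ⟨57, [.one, .gen 0 1 0, .lin [(1572867, 1), (1572863, 0)], .lin [(1, 2)]], [(0, 1), (1, 4)]⟩,
  ⟨60, [.one, .gen 0 1 0, .mul 0 0, .lin [(3, 2), (2097148, 1), (1, 0)], .lin [(2097151, 3), (1, 2)], .lin [(1, 4)]],
    [(2, 1), (0, 2), (1, 8)]⟩,
  ⟨61, [.one, .gen 0 1 0, .lin [(1572867, 1), (1572863, 0)], .lin [(1, 2)]], [(0, 1), (1, 4)]⟩,
  ⟨62, [.one, .gen 2 1 0, .lin [(4, 1), (1572863, 0)], .lin [(1, 2)]], [(0, 1), (1, 4)]⟩,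
  ⟨63, [.one, .gen 6 1 0, .lin [(1048577, 1), (1048575, 0)], .lin [(1, 2)]], [(0, 1), (1, 2)]⟩,
  ⟨64, [.one, .gen 0 1 0, .lin [(1048577, 1), (1048575, 0)], .lin [(1, 2)]], [(0, 1), (1, 2)]⟩,
  ⟨73, [.one, .gen 1 1 0, .lin [(4, 1), (1572863, 0)], .lin [(1, 2)]], [(0, 1), (1, 4)]⟩]

end Cfsg.Agent.TAB.Co1
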