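import Cfsg.Agent.TAB.Co1.Dat
import Cfsg.Agent.DZ3.Spor.Tr
import Cfsg.Agent.H123.Cls.LDat
import Cfsg.Agent.H68.CoGen

/-!
# The table of `Co1` (helper11, TAB): traces and orders of the representatives of the types
-/

set_option autoImplicit false
set_option maxHeartbeats 400000

namespace Cfsg.Agent.TAB.Co1

open Cfsg Finset Cfsg.Agent.TAB.Eng Cfsg.Agent.DZ3.Spor.Tr Cfsg.Agent.H123.Cls Cfsg.Agent.H123.Cls.CoD
open Cfsg.Agent.SporadicA.GolayBase (idx pt idx_lt pt_idx idx_pt)
open Cfsg.Agent.SporadicStructure.Co0Base (e8 e8_coe)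
open Cfsg.Agent.Co2Type.Mono (tr8)
open Cfsg.Agent.Lib.BitNetSimple (force force_eq)
open Cfsg.Agent.LeechMat.Elements (sdig mv vec vec_apply)
open Cfsg.Agent.H68.CoGen (gA gB gA_spec gB_spec colA colB)

/-- a test of the traces of the first powers of words in two letters -/
noncomputable def chkV (k0 k1 k2 n0 : ℕ) (a b : List ℕ) (f : ℕ → List ℕ → Bool) (ws : List (ℕ × ℕ × List ℕ)) : Bool :=
  force k0 fun K0 => force k1 fun K1 => force k2 fun K2 => force n0 fun n =>
    DZ3.Spor.Tr.frc a fun c0 => DZ3.Spor.Tr.frc b fun c1 => force (K2 * c0.sum) fun s0 => force (K2 * c1.sum) fun s1 =>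
      allL (fun w => DZ3.Spor.Tr.frc (trs K0 K1 (sel c0 c1 c1) (sel s0 s1 s1) w.2.2 w.2.1 n) (f w.1)) ws

theorem chkV_spec {e : ℕ → Co0} {k0 k1 k2 n0 : ℕ} {a b : List ℕ} (h0 : St k0 k1 a (k2 * a.sum) (e 0))
    (h1 : ∀ l, St k0 k1 b (k2 * b.sum) (e (l + 1))) (hn : n0 = NN 1) {f : ℕ → List ℕ → Bool}
    {ws : List (ℕ × ℕ × List ℕ)} (h : chkV k0 k1 k2 n0 a b f ws = true) : ∀ w ∈ ws,
      f w.1 ((List.range w.2.1).map fun k => (tr8 ((w.2.2.map e).prod ^ (k + 1)) + 384).toNat) = true := by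
  unfold chkV at h
  simp only [force_eq, DZ3.Spor.Tr.frc_eq] at h
  intro w hw
  have h2 := allL_spec h w hw
  rw [hn, trs_eq (e := e)] at h2
  · simpa only [mul_one] using h2
  · intro l
    match l with
    | 0 => exact h0
    | 1 => exact h1 0
    | l + 2 => exact h1 (l + 1)

attribute [irreducible] chkV

/-- the entries of a matrix given by its columns -/
def en (A : List ℕ) (i j : ℕ) : ℤ := sdig (A.getD j 0) i

theorem E_of_mv {g : Co0} {A : List ℕ}
    (h : ∀ x : leechLattice, mv A (x : GolayPt → ℤ) = (8 : ℤ) • ((g • x : leechLattice) : GolayPt → ℤ)) :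
    ∀ i < 24, ∀ j < 24, E g i j = en A i j := by
  intro i hi j hj
  have h1 := congrFun (h (e8 (pt j))) (pt i)
  unfold E
  rw [Pi.smul_apply, smul_eq_mul, e8_coe, mv, sum_eq_single (pt j)] at h1
  · rw [Pi.single_eq_same, vec_apply] at h1
    have h2 : ∀ q, LeechMat.Code.pos q = idx q := fun q => by cases q <;> rfl
    rw [h2, h2, idx_pt hi, idx_pt hj] at h1
    unfold en
    omega
  · intro p _ hp
    rw [Pi.single_eq_of_ne hp, zero_mul]
  · intro h2
    exact absurd (mem_univ _) h2

/-- the letters -/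
noncomputable def lt (l : ℕ) : Co0 := sel gA gB gB l

/-- the word of a class -/
def lw (d : Ent) : List ℕ := (d.x :: d.w).map fun b => cond b 1 0

/-- the traces give the values of the two seeds on the proper powers -/
noncomputable def okT (t : ℕ) (l : List ℕ) : Bool :=
  allL (fun p => decide (0 < p.1) && decide (2 * p.1 ≤ l.length) &&
    decide (((l.getD (p.1 - 1) 0 : ℤ) - 384) ^ 2 = 64 * nth s576 p.2) &&
    decide (64 * nth s576 p.2 - 8 * ((l.getD (2 * p.1 - 1) 0 : ℤ) - 384) = 128 * nth s276 p.2)) (D.pw t)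

/-- the check for a list of types with representatives -/
noncomputable def chkT (L : List (ℕ × ℕ × Ent)) : Bool :=
  chkV (3200 * on1 * on2) (8 * on2) (16 * on1) N1 (wide (en colA)) (wide (en colB)) okT
    (L.map fun x => (x.1, x.2.1, lw x.2.2))

theorem chkT_spec {L : List (ℕ × ℕ × Ent)} (h : chkT L = true) : ∀ x ∈ L, ∀ p ∈ D.pw x.1,
    tr8 (((lw x.2.2).map lt).prod ^ p.1) ^ 2 = 64 * nth s576 p.2 ∧
    64 * nth s576 p.2 - 8 * tr8 (((lw x.2.2).map lt).prod ^ (2 * p.1)) = 128 * nth s276 p.2 := by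
  intro x hx p hp
  have h1 := chkV_spec (e := lt) (st_wide (A := en colA) (E_of_mv gA_spec))
    (fun l => by cases l <;> exact st_wide (A := en colB) (E_of_mv gB_spec)) N1_eq h _ (List.mem_map_of_mem hx)
  have h2 := allL_spec h1 p hp
  simp only [Bool.and_eq_true, decide_eq_true_eq, List.length_map, List.length_range] at h2
  obtain ⟨⟨⟨h3, h4⟩, h5⟩, h6⟩ := h2
  generalize ((lw x.2.2).map lt).prod = g at h5 h6 ⊢
  have key : ∀ k, 0 < k → k ≤ x.2.1 → ((((List.range x.2.1).map fun k =>
      (tr8 (g ^ (k + 1)) + 384).toNat).getD (k - 1) 0 : ℕ) : ℤ) - 384 = tr8 (g ^ k) := by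
    intro k h7 h8
    rw [List.getD_eq_getElem _ _ (by rw [List.length_map, List.length_range]; omega), List.getElem_map,
      List.getElem_range, Nat.sub_add_cancel h7, ← diag_eq, Int.toNat_natCast, diag_eq]
    ring
  rw [key _ h3 (by omega)] at h5
  rw [key _ (by omega) h4] at h6
  exact ⟨h5, h6⟩

attribute [irreducible] chkT

/-- types, numbers of powers, representatives -/
def L0 : List (ℕ × ℕ × Ent) := [(0, 0, d100), (1, 2, d1), (2, 2, d0), (3, 2, d2), (4, 2, d3), (5, 2, d4), (6, 2, d6),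
    (7, 2, d5), (8, 4, d12), (9, 4, d7), (10, 4, d9), (11, 4, d11), (12, 4, d10), (13, 4, d8), (14, 2, d15), (15, 2,
    d14), (16, 2, d13), (17, 6, d23), (18, 6, d19), (19, 6, d21), (20, 6, d22), (21, 6, d20), (22, 6, d18), (23, 6,
    d97), (24, 6, d16), (25, 6, d17), (26, 2, d25), (27, 2, d24), (28, 8, d26), (29, 8, d30), (30, 8, d31), (31, 8,
    d28), (32, 8, d27), (33, 8, d29), (34, 6, d33), (35, 6, d32), (36, 6, d34)]

theorem chk0 : chkT L0 = true := by decide +kernel

/-- types, numbers of powers, representatives -/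
def L1 : List (ℕ × ℕ × Ent) := [(37, 10, d36), (38, 10, d35), (39, 10, d39), (40, 10, d38), (41, 10, d40), (42, 10,
    d37), (43, 2, d41), (44, 12, d54), (45, 12, d51), (46, 12, d42), (47, 12, d50), (48, 12, d45), (49, 12, d44), (50,
    12, d43), (51, 12, d48), (52, 12, d49), (53, 12, d52), (54, 12, d53), (55, 12, d47), (56, 12, d46), (57, 2, d55),
    (58, 14, d57), (59, 14, d56)]

theorem chk1 : chkT L1 = true := by decide +kernel

/-- types, numbers of powers, representatives -/
def L2 : List (ℕ × ℕ × Ent) := [(60, 10, d62), (61, 10, d60), (62, 10, d58), (63, 10, d59), (64, 10, d61), (65, 16,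
    d63), (66, 16, d64), (67, 18, d65), (68, 18, d66), (69, 18, d67), (70, 20, d70), (71, 20, d68), (72, 20, d69), (73,
    14, d73), (74, 14, d71), (75, 14, d72), (76, 22, d74), (77, 2, d75), (78, 24, d80), (79, 24, d81), (80, 24, d76),
    (81, 24, d77)]

theorem chk2 : chkT L2 = true := by decide +kernel

/-- types, numbers of powers, representatives -/
def L3 : List (ℕ × ℕ × Ent) := [(82, 24, d79), (83, 24, d78), (84, 26, d82), (85, 28, d83), (86, 28, d84), (87, 30,
    d89), (88, 30, d85), (89, 30, d87), (90, 30, d86), (91, 30, d88), (92, 22, d90), (93, 14, d91), (94, 36, d92), (95,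
    26, d93), (96, 40, d94), (97, 42, d95)]

theorem chk3 : chkT L3 = true := by decide +kernel

/-- types, numbers of powers, representatives -/
def L4 : List (ℕ × ℕ × Ent) := [(98, 60, d96)]

theorem chk4 : chkT L4 = true := by decide +kernel

/-- all types -/
def LL : List (ℕ × ℕ × Ent) := L0 ++ L1 ++ L2 ++ L3 ++ L4

theorem tr_all : ∀ x ∈ LL, ∀ p ∈ D.pw x.1,
    tr8 (((lw x.2.2).map lt).prod ^ p.1) ^ 2 = 64 * nth s576 p.2 ∧
    64 * nth s576 p.2 - 8 * tr8 (((lw x.2.2).map lt).prod ^ (2 * p.1)) = 128 * nth s276 p.2 := by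
  intro x hx
  simp only [LL, List.mem_append] at hx
  rcases hx with (((hx | hx) | hx) | hx) | hx
  exacts [chkT_spec chk0 x hx, chkT_spec chk1 x hx, chkT_spec chk2 x hx, chkT_spec chk3 x hx, chkT_spec chk4 x hx]

/-- the orders -/
theorem ord_all : allL (fun x : ℕ × ℕ × Ent =>
    chkWd x.2.2.R x.2.2.R false (List.replicate (D.ord x.1 - 1) false) unL) LL = true := by decide +kernel

theorem w23 : chkWd d75.R d75.R false (List.replicate 21 false) d98.R = true := by decide +kernel

end Cfsg.Agent.TAB.Co1
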